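import Cfsg.Agent.ChevalleyStructure.JacAll
import Cfsg.Agent.ChevalleyStructure.Good
import Cfsg.Agent.ChevalleyStructure.Elts
import Cfsg.Agent.S1054

/-!
# Ideals of the Lie algebra of type `F4` in odd characteristic (after helper351's file for the simply laced types)

`x_r(t) = 1 + t ad e_r + t² / 2 (ad e_r)²`, so every ideal `I` of the Lie algebra is invariant under the Chevalley
group; if some element `g ≠ 1` of the Chevalley group (simple) acts trivially on the quotient then `I` is everything.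

-/

set_option autoImplicit false

namespace Cfsg.Agent.H512.LinFour.IdealF

open Cfsg Cfsg.Lie Matrix
open Cfsg.Agent.ChevalleyStructure.LieAbs Cfsg.Agent.ChevalleyStructure.Ring Cfsg.Agent.ChevalleyStructure.JacMain
  Cfsg.Agent.ChevalleyStructure.LieAut Cfsg.Agent.ChevalleyStructure.JacAll Cfsg.Agent.ChevalleyStructure.Columns
  Cfsg.Agent.ChevalleyStructure.Additive

universe u

/-- the table facts: root strings, simple roots -/
structure Lac (D : ChevalleyDatum) : Prop where
  mem : D ∈ [chevD4, chevF4, chevE6, chevE7, chevE8]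
  le : ∀ r < D.nroots, ∀ e ∈ row D r, e.2.toList.length ≤ 2
  sim : ∀ i < D.rank, D.simple i < D.nroots ∧ ∀ j < D.rank, cor D (D.simple i) j = if j = i then 1 else 0

theorem lac_F4 : Lac chevF4 := ⟨by simp, by decide +kernel, by decide +kernel⟩

variable {D : ChevalleyDatum} (L : Lac D)

include L in
theorem Lac.inList : D ∈ [chevG2, chevB2, chevD4, chevF4, chevE6, chevE7, chevE8] :=
  List.mem_cons_of_mem _ (List.mem_cons_of_mem _ L.mem)

include L in
theorem coefE_three {r : ℕ} (hr : r < D.nroots) {k : ℕ} (hk : 3 ≤ k) : coefE D r k = 0 := by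
  have h0 : ∀ s u : ℕ, ((D.chainCoeff r s u).map fun km : ℕ × ℤ => if km.1 = k then km.2 else 0).sum = 0 := by
    intro s u
    apply List.sum_eq_zero
    intro x hx
    obtain ⟨km, hkm, rfl⟩ := List.mem_map.1 hx
    rw [if_neg]
    simp only [ChevalleyDatum.chainCoeff, List.mem_flatMap, List.mem_map] at hkm
    obtain ⟨e, he, q, hq, rfl⟩ := hkm
    have h1 := L.le r hr e (List.mem_filter.1 he).1
    have h2 := List.snd_lt_of_mem_zipIdx (List.mem_filter.1 hq).1
    simp only at h2 ⊢
    omega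
  ext row col
  rw [coefE_entry D r k hr, Matrix.zero_apply]
  rcases row with i | u <;> rcases col with j | s
  · simp only
    rw [if_neg (by omega)]
  · simp only
    split_ifs <;> first | rfl | omega
  · simp only
    rw [if_neg (by omega)]
  · simp only
    rw [h0]
    split_ifs <;> first | rfl | omega

variable {F : Type u} [Field F]

include L in
/-- **ideals are invariant under the root elements** -/
theorem x_mem (h2 : (2 : F) ≠ 0) {I : Submodule F (D.Idx → F)} (hI : ∀ x, ∀ w ∈ I, adv (adR D F) x *ᵥ w ∈ I)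
    (r : ℕ) (t : F) {w : D.Idx → F} (hw : w ∈ I) : D.x F r t *ᵥ w ∈ I := by
  by_cases hr : r < D.nroots
  · obtain ⟨m, hm⟩ := exists_degree_bound D r
    have hadd : ∀ (K : Type) [Field K] [CharZero K] (t u : K), xR D K r t * xR D K r u = xR D K r (t + u) :=
      fun K _ _ t u => xR_add_field D L.inList r K t u
    rw [x_eq_xR, xR_eq_sum D r t m hm, Matrix.sum_mulVec]
    have h1 : ∀ w ∈ I, adK D F r *ᵥ w ∈ I := by
      intro w hw
      have h := hI (Pi.single (Sum.inr ⟨r, hr⟩) 1) w hw
      rw [adv_single_one] at h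
      exact h
    refine Submodule.sum_mem _ fun k _ => ?_
    rw [Matrix.smul_mulVec]
    refine Submodule.smul_mem _ _ ?_
    rcases Nat.lt_or_ge k 3 with hk | hk
    · have hk' : k = 0 ∨ k = 1 ∨ k = 2 := by omega
      rcases hk' with rfl | rfl | rfl
      · rw [coefE_zero]
        have : (1 : Matrix D.Idx D.Idx ℤ).map (Int.castRingHom F) = 1 := Matrix.map_one _ (map_zero _) (map_one _)
        rw [this, Matrix.one_mulVec]
        exact hw
      · exact h1 w hw
      · have h3 := adK_pow (K := F) D r hadd 2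
        have h4 : (2 : F) • ((coefE D r 2).map (Int.castRingHom F) *ᵥ w) ∈ I := by
          have h5 : (2 : F) • ((coefE D r 2).map (Int.castRingHom F) *ᵥ w) = adK D F r *ᵥ (adK D F r *ᵥ w) := by
            rw [Matrix.mulVec_mulVec, ← pow_two, h3]
            rw [show Nat.factorial 2 = 2 from rfl, two_nsmul, Matrix.add_mulVec, two_smul]
          rw [h5]
          exact h1 _ (h1 _ hw)
        exact (Submodule.smul_mem_iff _ h2).1 h4
    · rw [coefE_three L hr hk]
      have : (0 : Matrix D.Idx D.Idx ℤ).map (Int.castRingHom F) = 0 := Matrix.map_zero _ (map_zero _)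
      rw [this, Matrix.zero_mulVec]
      exact Submodule.zero_mem _
  · have : D.x F r t = 1 := by unfold ChevalleyDatum.x; rw [dif_neg hr]
    rw [this, Matrix.one_mulVec]; exact hw

include L in
/-- **ideals are invariant under the Chevalley group** -/
theorem group_mem (h2 : (2 : F) ≠ 0) {I : Submodule F (D.Idx → F)} (hI : ∀ x, ∀ w ∈ I, adv (adR D F) x *ᵥ w ∈ I)
    {g : GL D.Idx F} (hg : g ∈ D.group F) {w : D.Idx → F} (hw : w ∈ I) :
    (g : Matrix D.Idx D.Idx F) *ᵥ w ∈ I := by
  unfold ChevalleyDatum.group at hg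
  induction hg using Subgroup.closure_induction generalizing w with
  | mem g hg =>
    obtain ⟨r, t, h⟩ := hg
    have h3 : D.x F r.val t = D.xMat F r t := by
      unfold ChevalleyDatum.x
      rw [dif_pos r.isLt]
    rw [h, ← h3]
    exact x_mem L h2 hI r.val t hw
  | one => rw [Units.val_one, Matrix.one_mulVec]; exact hw
  | mul g g' _ _ ih ih' =>
    rw [Units.val_mul, ← Matrix.mulVec_mulVec]
    exact ih (ih' hw)
  | inv g _ ih =>
    let f : I →ₗ[F] I := (Matrix.mulVecLin (g : Matrix D.Idx D.Idx F)).restrict (fun w hw => ih hw)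
    have hf : Function.Injective f := by
      intro a b hab
      apply Subtype.ext
      have h1 : (g : Matrix D.Idx D.Idx F) *ᵥ a.1 = (g : Matrix D.Idx D.Idx F) *ᵥ b.1 := congrArg Subtype.val hab
      have h3 := congrArg (fun v => ((g⁻¹ : GL D.Idx F) : Matrix D.Idx D.Idx F) *ᵥ v) h1
      simp only [Matrix.mulVec_mulVec, ← Units.val_mul, inv_mul_cancel, Units.val_one, Matrix.one_mulVec] at h3
      exact h3
    obtain ⟨⟨w', hw'⟩, h3⟩ := (LinearMap.injective_iff_surjective.1 hf) ⟨w, hw⟩
    have h4 : (g : Matrix D.Idx D.Idx F) *ᵥ w' = w := congrArg Subtype.val h3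
    have h5 : ((g⁻¹ : GL D.Idx F) : Matrix D.Idx D.Idx F) *ᵥ w = w' := by
      rw [← h4, Matrix.mulVec_mulVec, ← Units.val_mul, inv_mul_cancel, Units.val_one, Matrix.one_mulVec]
    rw [h5]; exact hw'

/-- the elements acting trivially on the quotient by an invariant subspace -/
def kerQ (I : Submodule F (D.Idx → F))
    (hI : ∀ g ∈ D.group F, ∀ w ∈ I, (g : Matrix D.Idx D.Idx F) *ᵥ w ∈ I) : Subgroup ↥(D.group F) where
  carrier := {g | ∀ w, ((g : GL D.Idx F) : Matrix D.Idx D.Idx F) *ᵥ w - w ∈ I}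
  mul_mem' := by
    intro a b ha hb w
    have h1 := hI a.1 a.2 _ (hb w)
    have h3 := I.add_mem h1 (ha w)
    rw [Matrix.mulVec_sub, Matrix.mulVec_mulVec, sub_add_sub_cancel, ← Units.val_mul] at h3
    exact h3
  one_mem' := by
    intro w
    show ((1 : GL D.Idx F) : Matrix D.Idx D.Idx F) *ᵥ w - w ∈ I
    rw [Units.val_one, Matrix.one_mulVec, sub_self]; exact I.zero_mem
  inv_mem' := by
    intro a ha w
    have h1 := hI (a.1)⁻¹ ((D.group F).inv_mem a.2) _ (ha w)
    rw [Matrix.mulVec_sub, Matrix.mulVec_mulVec, ← Units.val_mul, inv_mul_cancel, Units.val_one,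
      Matrix.one_mulVec] at h1
    have h3 := I.neg_mem h1
    rw [neg_sub] at h3
    exact h3

theorem mem_kerQ {I : Submodule F (D.Idx → F)}
    {hI : ∀ g ∈ D.group F, ∀ w ∈ I, (g : Matrix D.Idx D.Idx F) *ᵥ w ∈ I} {g : ↥(D.group F)} :
    g ∈ kerQ I hI ↔ ∀ w, ((g : GL D.Idx F) : Matrix D.Idx D.Idx F) *ᵥ w - w ∈ I := Iff.rfl

theorem kerQ_normal {I : Submodule F (D.Idx → F)}
    (hI : ∀ g ∈ D.group F, ∀ w ∈ I, (g : Matrix D.Idx D.Idx F) *ᵥ w ∈ I) : (kerQ I hI).Normal := by
  constructor
  intro n hn g w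
  have h1 := hI g.1 g.2 _ (hn (((g.1)⁻¹ : GL D.Idx F) *ᵥ w))
  rw [Matrix.mulVec_sub, Matrix.mulVec_mulVec, Matrix.mulVec_mulVec, Matrix.mulVec_mulVec, ← Units.val_mul,
    ← Units.val_mul, ← Units.val_mul, mul_inv_cancel, Units.val_one, Matrix.one_mulVec] at h1
  exact h1

include L in
/-- **an ideal with a nontrivial element of the group trivial on the quotient is everything** -/
theorem eq_top (h2 : (2 : F) ≠ 0) {I : Submodule F (D.Idx → F)} (hI : ∀ x, ∀ w ∈ I, adv (adR D F) x *ᵥ w ∈ I)
    {g : GL D.Idx F} (hg : g ∈ D.group F) (hg1 : g ≠ 1) (hgI : ∀ w, (g : Matrix D.Idx D.Idx F) *ᵥ w - w ∈ I) :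
    I = ⊤ := by
  have hI' : ∀ g ∈ D.group F, ∀ w ∈ I, (g : Matrix D.Idx D.Idx F) *ᵥ w ∈ I :=
    fun g hg w hw => group_mem L h2 hI hg hw
  have hs := (Cfsg.Agent.S1054.result (F := F) D L.mem).1
  have hn := kerQ_normal hI'
  have htop : kerQ I hI' = ⊤ := by
    rcases hn.eq_bot_or_eq_top with h | h
    · exfalso
      have h1 : (⟨g, hg⟩ : ↥(D.group F)) ∈ kerQ I hI' := hgI
      rw [h, Subgroup.mem_bot] at h1
      exact hg1 (congrArg Subtype.val h1)
    · exact h
  have hx : ∀ (r : Fin D.nroots) (t : F) (w : D.Idx → F), D.xMat F r t *ᵥ w - w ∈ I := by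
    intro r t w
    have h1 : (⟨Cfsg.Agent.ChevalleyStructure.Elts.xG L.inList r.val t,
        Cfsg.Agent.ChevalleyStructure.Elts.xG_mem_group L.inList r.val t⟩ : ↥(D.group F)) ∈ kerQ I hI' := by
      rw [htop]; exact Subgroup.mem_top _
    have h3 := h1 w
    simp only [Cfsg.Agent.ChevalleyStructure.Elts.coe_xG,
      Cfsg.Agent.ChevalleyStructure.Elts.x_of_lt r.isLt] at h3
    exact h3
  have hgood := fun r (hr : r < D.nroots) => Cfsg.Agent.ChevalleyStructure.Good.goodAt_of_mem D L.inList r hr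
  -- the column of `-r`
  have hcol : ∀ (r : Fin D.nroots) (t : F), (∑ i : Fin D.rank, ((cor D r.val i.val : ℤ) : F) • t •
      (Pi.single (Sum.inl i) (1 : F) : D.Idx → F)) - t ^ 2 • (Pi.single (Sum.inr r) (1 : F) : D.Idx → F) ∈ I := by
    intro r t
    let s : Fin D.nroots := ⟨D.negIdx.getD r.val 0, (hgood r.val r.isLt).neg_lt⟩
    have hsr : s ≠ r := fun h => (hgood r.val r.isLt).neg_ne (congrArg Fin.val h)
    have h1 := hx r t (Pi.single (Sum.inr s) 1)
    have h3 : D.xMat F r t *ᵥ (Pi.single (Sum.inr s) 1) - Pi.single (Sum.inr s) 1 =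
      (∑ i : Fin D.rank, ((cor D r.val i.val : ℤ) : F) • t •
      (Pi.single (Sum.inl i) (1 : F) : D.Idx → F)) - t ^ 2 • (Pi.single (Sum.inr r) (1 : F) : D.Idx → F) := by
      funext v
      rw [Pi.sub_apply, Matrix.mulVec_single_one, Matrix.col_apply, xMat_neg D r t v s rfl hsr]
      simp only [Pi.sub_apply, Finset.sum_apply, Pi.smul_apply, smul_eq_mul]
      have e1 : ∀ k : D.Idx, (Pi.single k (1 : F) : D.Idx → F) v = if v = k then 1 else 0 := fun k =>
        Pi.single_apply _ _ _
      have e2 : ∀ u : Fin D.nroots, dl F D v u.val = if v = Sum.inr u then 1 else 0 := by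
        intro u
        rcases v with j | w
        · rw [dl_inl, if_neg (by simp)]
        · rw [dl_inr]
          simp [Fin.ext_iff]
      rw [e1, e1, e2, e2]
      simp only [e1]
      have e3 : ∀ i : Fin D.rank, ((cor D r.val i.val : ℤ) : F) * (t * if v = Sum.inl i then 1 else 0) =
        ((cor D r.val i.val : ℤ) : F) * t * (if v = Sum.inl i then 1 else 0) := fun i => (mul_assoc _ _ _).symm
      simp only [e3]
      ring
    rwa [h3] at h1
  have he : ∀ r : Fin D.nroots, (Pi.single (Sum.inr r) (1 : F) : D.Idx → F) ∈ I := by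
    intro r
    have h1 := hcol r 1
    have h3 := hcol r (-1)
    have h4 := I.neg_mem (I.add_mem h1 h3)
    have h5 : -((∑ i : Fin D.rank, ((cor D r.val i.val : ℤ) : F) • (1 : F) •
      (Pi.single (Sum.inl i) (1 : F) : D.Idx → F)) - (1 : F) ^ 2 • (Pi.single (Sum.inr r) (1 : F) : D.Idx → F) +
      ((∑ i : Fin D.rank, ((cor D r.val i.val : ℤ) : F) • (-1 : F) •
      (Pi.single (Sum.inl i) (1 : F) : D.Idx → F)) - (-1 : F) ^ 2 • (Pi.single (Sum.inr r) (1 : F) : D.Idx → F))) =
      (2 : F) • (Pi.single (Sum.inr r) (1 : F) : D.Idx → F) := by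
      have e1 : (∑ i : Fin D.rank, ((cor D r.val i.val : ℤ) : F) • (-1 : F) •
        (Pi.single (Sum.inl i) (1 : F) : D.Idx → F)) = - ∑ i : Fin D.rank, ((cor D r.val i.val : ℤ) : F) • (1 : F) •
        (Pi.single (Sum.inl i) (1 : F) : D.Idx → F) := by
        rw [← Finset.sum_neg_distrib]
        exact Finset.sum_congr rfl fun i _ => by rw [neg_smul, smul_neg]
      rw [e1]
      module
    rw [h5] at h4
    exact (Submodule.smul_mem_iff _ h2).1 h4
  have hh : ∀ i : Fin D.rank, (Pi.single (Sum.inl i) (1 : F) : D.Idx → F) ∈ I := by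
    intro i
    obtain ⟨hs1, hs2⟩ := L.sim i.val i.isLt
    have h1 := hcol ⟨D.simple i.val, hs1⟩ 1
    have h3 := I.add_mem h1 (I.smul_mem ((1 : F) ^ 2) (he ⟨D.simple i.val, hs1⟩))
    rw [sub_add_cancel, Finset.sum_eq_single i] at h3
    · rw [hs2 i.val i.isLt, if_pos rfl, Int.cast_one, one_smul, one_smul] at h3
      exact h3
    · intro j _ hj
      rw [hs2 j.val j.isLt, if_neg (fun h => hj (Fin.ext h)), Int.cast_zero, zero_smul]
    · intro h; exact absurd (Finset.mem_univ _) h
  rw [eq_top_iff]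
  intro w _
  have hw : w = ∑ j, w j • (Pi.single j (1 : F) : D.Idx → F) := by
    ext k
    simp [Finset.sum_apply, Pi.single_apply]
  rw [hw]
  refine Submodule.sum_mem _ fun j _ => I.smul_mem _ ?_
  rcases j with i | r
  · exact hh i
  · exact he r

end Cfsg.Agent.H512.LinFour.IdealF
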