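import Cfsg.Agent.H336.LinFour.Def

/-!
# Alternating groups: the row of S1918

An elementary abelian subgroup of order 16 with normaliser quotient `GL_4(2)` in the alternating group of degree `n`
has exactly one nontrivial orbit, of length 16, and `16 ≤ n ≤ 19`.
-/

set_option autoImplicit false

namespace Cfsg.Agent.H512.LinFour

open Cfsg.Agent.H336.LinFour Equiv.Perm

theorem card_V : Fintype.card V = 16 := by simp [V]

namespace Alt

variable {n : ℕ} {th : V → alternatingGroup (Fin n)} {O K0 : Subgroup (alternatingGroup (Fin n))}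

/-- the permutation given by a vector -/
abbrev P (th : V → alternatingGroup (Fin n)) (v : V) : Equiv.Perm (Fin n) := (th v : Equiv.Perm (Fin n))

theorem P_add (h : Sit th O K0) (u v : V) : P th (u + v) = P th u * P th v := by
  simp only [P, h.add, Subgroup.coe_mul]

theorem P_zero (h : Sit th O K0) : P th 0 = 1 := by
  simp only [P, h.zero, Subgroup.coe_one]

theorem P_add_apply (h : Sit th O K0) (u v : V) (x : Fin n) : P th (u + v) x = P th u (P th v x) := by
  rw [P_add h]; rfl

theorem P_P (h : Sit th O K0) (v : V) (x : Fin n) : P th v (P th v x) = x := by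
  rw [← P_add_apply h, v_add_self, P_zero h]; rfl

theorem P_comm (h : Sit th O K0) (u v : V) (x : Fin n) : P th u (P th v x) = P th v (P th u x) := by
  rw [← P_add_apply h, ← P_add_apply h, add_comm]

theorem P_eq_one (h : Sit th O K0) {v : V} (hv : P th v = 1) : v = 0 := by
  rw [← h.eq_one_iff]; exact Subtype.ext hv

/-- even involutions which commute with `A` lie in `A` -/
theorem exists_P (h : Sit th O K0) {s : Equiv.Perm (Fin n)} (hc : ∀ v x, s (P th v x) = P th v (s x))
    (h2 : ∀ x, s (s x) = x) (he : sign s = 1) : ∃ w, P th w = s := by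
  have hs : s ∈ alternatingGroup (Fin n) := mem_alternatingGroup.2 he
  obtain ⟨w, hw⟩ := h.mem_of_mul_self (x := ⟨s, hs⟩)
    (fun v => Subtype.ext (Equiv.ext fun x => hc v x)) (Subtype.ext (Equiv.ext fun x => h2 x))
  exact ⟨w, congrArg Subtype.val hw⟩

theorem card_support_eq (h : Sit th O K0) {u v : V} (hu : u ≠ 0) (hv : v ≠ 0) :
    (P th u).support.card = (P th v).support.card := by
  obtain ⟨k, -, hk⟩ := h.exists_conj hu hv
  have hk' : (k : Equiv.Perm (Fin n)) * P th u * (k : Equiv.Perm (Fin n))⁻¹ = P th v := by
    have := congrArg Subtype.val hk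
    simpa using this
  rw [← hk', card_support_conj]

/-- two nonzero vectors do not have disjoint supports -/
theorem not_disjoint (h : Sit th O K0) {u v : V} (hu : u ≠ 0) (hv : v ≠ 0) (hd : (P th u).Disjoint (P th v)) :
    False := by
  have huv : u + v ≠ 0 := fun hh => by
    rw [add_eq_zero_iff] at hh
    subst hh
    exact hu (P_eq_one h (disjoint_refl_iff.1 hd))
  have h1 := hd.card_support_mul
  rw [← P_add h, card_support_eq h huv hu, card_support_eq h hv hu] at h1
  have h2 : (P th u).support.card ≠ 0 := fun hh => hu (P_eq_one h (card_support_eq_zero.1 hh))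
  omega

/-- restriction of `v` to the orbit of `x` -/
noncomputable def dl (h : Sit th O K0) (x : Fin n) (v : V) : Equiv.Perm (Fin n) := by
  classical
  exact Function.Involutive.toPerm (fun y => if ∃ u, P th u x = y then P th v y else y) (by
    intro y
    by_cases hy : ∃ u, P th u x = y
    · have hy' : ∃ u, P th u x = P th v y := by
        obtain ⟨u, rfl⟩ := hy
        exact ⟨v + u, P_add_apply h v u x⟩
      simp only [hy, hy', if_true]
      exact P_P h v y
    · simp only [hy, if_false])

theorem dl_of_mem (h : Sit th O K0) {x y : Fin n} (v : V) (hy : ∃ u, P th u x = y) : dl h x v y = P th v y := by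
  classical
  exact if_pos hy

theorem dl_of_not (h : Sit th O K0) {x y : Fin n} (v : V) (hy : ¬ ∃ u, P th u x = y) : dl h x v y = y := by
  classical
  exact if_neg hy

theorem mem_orb_iff (h : Sit th O K0) (x y : Fin n) (w : V) :
    (∃ u, P th u x = P th w y) ↔ ∃ u, P th u x = y := by
  constructor
  · rintro ⟨u, hu⟩
    exact ⟨w + u, by rw [P_add_apply h, hu, P_P h]⟩
  · rintro ⟨u, rfl⟩
    exact ⟨w + u, P_add_apply h w u x⟩

theorem dl_comm (h : Sit th O K0) (x : Fin n) (v w : V) (y : Fin n) :
    dl h x v (P th w y) = P th w (dl h x v y) := by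
  by_cases hy : ∃ u, P th u x = y
  · rw [dl_of_mem h v hy, dl_of_mem h v ((mem_orb_iff h x y w).2 hy), P_comm h]
  · rw [dl_of_not h v hy, dl_of_not h v (fun hh => hy ((mem_orb_iff h x y w).1 hh))]

theorem dl_dl (h : Sit th O K0) (x : Fin n) (v : V) (y : Fin n) : dl h x v (dl h x v y) = y := by
  by_cases hy : ∃ u, P th u x = y
  · rw [dl_of_mem h v hy, dl_of_mem h v ((mem_orb_iff h x y v).2 hy), P_P h]
  · rw [dl_of_not h v hy, dl_of_not h v hy]

/-- if the orbit is fixed by a vector at one point, then everywhere -/
theorem fix_orb (h : Sit th O K0) {x y : Fin n} {v : V} (hx : P th v x = x) (hy : ∃ u, P th u x = y) :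
    P th v y = y := by
  obtain ⟨u, rfl⟩ := hy
  rw [P_comm h, hx]

/-- the number of points of an orbit is a power of two -/
theorem card_orb (h : Sit th O K0) (x : Fin n) :
    (Finset.univ.image fun v => P th v x).card ∣ 16 := by
  have h1 : (Finset.univ : Finset V).card = ∑ y ∈ (Finset.univ.image fun v => P th v x),
      (Finset.univ.filter fun v => P th v x = y).card :=
    Finset.card_eq_sum_card_image (fun v => P th v x) Finset.univ
  have h2 : ∀ y ∈ (Finset.univ.image fun v => P th v x),
      (Finset.univ.filter fun v => P th v x = y).card = (Finset.univ.filter fun v => P th v x = x).card := by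
    intro y hy
    obtain ⟨u, -, rfl⟩ := Finset.mem_image.1 hy
    apply Finset.card_bij (fun v _ => u + v)
    · intro a ha
      simp only [Finset.mem_filter, Finset.mem_univ, true_and] at ha ⊢
      rw [P_add_apply h, ha, P_P h]
    · intro a _ b _ hab
      exact add_left_cancel hab
    · intro b hb
      simp only [Finset.mem_filter, Finset.mem_univ, true_and] at hb
      refine ⟨u + b, ?_, self_add_add u b⟩
      simp only [Finset.mem_filter, Finset.mem_univ, true_and]
      rw [P_add_apply h, hb]
  rw [Finset.sum_congr rfl h2, Finset.sum_const, smul_eq_mul, Finset.card_univ, card_V] at h1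
  exact Dvd.intro _ h1.symm

/-- parity of a fixed point free involution on a set of `4 m` points -/
theorem sign_of_four {s : Equiv.Perm (Fin n)} (h2 : ∀ x, s (s x) = x) (h4 : 4 ∣ s.support.card) : sign s = 1 := by
  by_cases h1 : s = 1
  · rw [h1, map_one]
  have ho : orderOf s = 2 := orderOf_eq_prime (by rw [pow_two]; exact Equiv.ext fun x => h2 x) h1
  obtain ⟨k, hk⟩ := cycleType_prime_order (σ := s) (by rw [ho]; exact Nat.prime_two)
  rw [ho] at hk
  have hs := sum_cycleType s
  rw [hk, Multiset.sum_replicate, smul_eq_mul] at hs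
  rw [sign_of_cycleType, hk, Multiset.sum_replicate, Multiset.card_replicate, smul_eq_mul]
  have h3 : Even ((k + 1) * 2 + (k + 1)) := by
    obtain ⟨m, hm⟩ := h4
    rw [← hs] at hm
    exact ⟨3 * m, by omega⟩
  exact h3.neg_one_pow

theorem support_dl (h : Sit th O K0) {x : Fin n} {v : V} (hv : P th v x ≠ x) :
    (dl h x v).support = Finset.univ.image fun v => P th v x := by
  ext y
  rw [mem_support]
  simp only [Finset.mem_image, Finset.mem_univ, true_and]
  constructor
  · intro hy
    by_contra hc
    exact hy (dl_of_not h v hc)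
  · rintro ⟨u, rfl⟩ hy
    rw [dl_of_mem h v ⟨u, rfl⟩, P_comm h] at hy
    exact hv ((P th u).injective hy)

theorem exists_ne (h : Sit th O K0) : ∃ v x, P th v x ≠ x := by
  by_contra hc
  push Not at hc
  have h1 : P th (Pi.single 0 1) = 1 := Equiv.ext fun x => hc _ x
  have h2 := P_eq_one h h1
  have h3 := congrFun h2 0
  simp at h3

/-- there is exactly one nontrivial orbit and it is regular -/
theorem regular (h : Sit th O K0) : ∃ x, (∀ v, P th v x = x → v = 0) ∧
    ∀ y, (¬ ∃ u, P th u x = y) → ∀ v, P th v y = y := by
  by_cases hcase : ∃ x v0, P th v0 x ≠ x ∧ ∀ v, sign (dl h x v) = 1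
  · obtain ⟨x, v0, hv0, hs⟩ := hcase
    refine ⟨x, ?_⟩
    have key : ∀ v, P th v x = x ∨ ∀ y, (¬ ∃ u, P th u x = y) → P th v y = y := by
      intro v
      obtain ⟨w, hw⟩ := exists_P h (dl_comm h x v) (dl_dl h x v) (hs v)
      by_cases hw0 : w = 0
      · left
        rw [hw0, P_zero h] at hw
        have := dl_of_mem h v (x := x) (y := x) ⟨0, by rw [P_zero h]; rfl⟩
        rw [← hw] at this
        exact this.symm
      by_cases hvw : v + w = 0
      · right
        rw [add_eq_zero_iff] at hvw
        intro y hy
        rw [hvw, hw]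
        exact dl_of_not h v hy
      · exfalso
        refine not_disjoint h hw0 hvw ?_
        intro y
        by_cases hy : ∃ u, P th u x = y
        · right
          rw [P_add_apply h, hw, dl_of_mem h v hy, P_P h]
        · left
          rw [hw, dl_of_not h v hy]
    have hW : ∀ v y, (¬ ∃ u, P th u x = y) → P th v y = y := by
      have hW0 := (key v0).resolve_left hv0
      intro v
      rcases key v with h1 | h1
      · rcases key (v + v0) with h2 | h2
        · exfalso
          apply hv0
          rw [add_comm, P_add_apply h, h1] at h2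
          exact h2
        · intro y hy
          have h3 := h2 y hy
          rwa [P_add_apply h, hW0 y hy] at h3
      · exact h1
    refine ⟨?_, fun y hy v => hW v y hy⟩
    intro v hv
    apply P_eq_one h
    ext1 y
    by_cases hy : ∃ u, P th u x = y
    · exact fix_orb h hv hy
    · exact hW v y hy
  · exfalso
    push Not at hcase
    -- all nontrivial orbits have two points
    have htwo : ∀ x v0, P th v0 x ≠ x → ∀ v, P th v x = x ∨ P th v x = P th v0 x := by
      intro x v0 hv0
      obtain ⟨v1, hv1⟩ := hcase x v0 hv0
      have hn4 : ¬ 4 ∣ (Finset.univ.image fun v => P th v x).card := by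
        intro h4
        by_cases hvx : P th v1 x = x
        · apply hv1
          have : dl h x v1 = 1 := by
            ext1 y
            by_cases hy : ∃ u, P th u x = y
            · rw [dl_of_mem h v1 hy]; exact fix_orb h hvx hy
            · rw [dl_of_not h v1 hy]; rfl
          rw [this, map_one]
        · rw [← support_dl h hvx] at h4
          exact hv1 (sign_of_four (dl_dl h x v1) h4)
      have hd := card_orb h x
      rw [show (16 : ℕ) = 2 ^ 4 by norm_num, Nat.dvd_prime_pow Nat.prime_two] at hd
      obtain ⟨k, -, hk⟩ := hd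
      have hk1 : k ≤ 1 := by
        by_contra hc
        apply hn4
        rw [hk]
        exact pow_dvd_pow 2 (by omega : 2 ≤ k)
      have hle : (Finset.univ.image fun v => P th v x).card ≤ 2 := by
        rw [hk]
        calc 2 ^ k ≤ 2 ^ 1 := Nat.pow_le_pow_right (by norm_num) hk1
          _ = 2 := by norm_num
      have hsub : ({x, P th v0 x} : Finset (Fin n)) ⊆ Finset.univ.image fun v => P th v x := by
        intro y hy
        simp only [Finset.mem_insert, Finset.mem_singleton] at hy
        simp only [Finset.mem_image, Finset.mem_univ, true_and]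
        rcases hy with rfl | rfl
        · exact ⟨0, by rw [P_zero h]; rfl⟩
        · exact ⟨v0, rfl⟩
      have heq := Finset.eq_of_subset_of_card_le hsub (by
        rw [Finset.card_pair (Ne.symm hv0)]; exact hle)
      intro v
      have : P th v x ∈ ({x, P th v0 x} : Finset (Fin n)) := by
        rw [heq]
        exact Finset.mem_image.2 ⟨v, Finset.mem_univ _, rfl⟩
      simpa using this
    obtain ⟨v0, x, hv0⟩ := exists_ne h
    -- a second orbit
    have hsec : ∃ y v1, (¬ ∃ u, P th u x = y) ∧ P th v1 y ≠ y := by
      by_contra hc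
      push Not at hc
      have hcard : (Finset.univ : Finset V).card ≤ ({x, P th v0 x} : Finset (Fin n)).card := by
        apply Finset.card_le_card_of_injOn (fun v => P th v x)
        · intro v _
          have := htwo x v0 hv0 v
          simpa using this
        · intro a _ b _ hab
          have hab' : P th a x = P th b x := hab
          have h1 : P th (a + b) x = x := by rw [P_add_apply h, ← hab', P_P h]
          have h2 : a + b = 0 := by
            apply P_eq_one h
            ext1 y
            by_cases hy : ∃ u, P th u x = y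
            · exact fix_orb h h1 hy
            · exact hc y (a + b) (fun u hu => hy ⟨u, hu⟩)
          exact (add_eq_zero_iff _ _).1 h2
      rw [Finset.card_univ, card_V, Finset.card_pair (Ne.symm hv0)] at hcard
      omega
    obtain ⟨y, v1, hy, hv1⟩ := hsec
    have hy' : ¬ ∃ u, P th u y = x := by
      rintro ⟨u, hu⟩
      exact hy ⟨u, by rw [← hu, P_P h]⟩
    -- a common fixing vector
    have hfix : ∃ a b : V, a ≠ b ∧ P th a x = P th b x ∧ P th a y = P th b y := by
      have hlt : (({x, P th v0 x} : Finset (Fin n)) ×ˢ ({y, P th v1 y} : Finset (Fin n))).card <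
          (Finset.univ : Finset V).card := by
        rw [Finset.card_product, Finset.card_pair (Ne.symm hv0), Finset.card_pair (Ne.symm hv1), Finset.card_univ,
          card_V]
        norm_num
      obtain ⟨a, -, b, -, hab, heq⟩ := Finset.exists_ne_map_eq_of_card_lt_of_maps_to hlt
        (f := fun v => (P th v x, P th v y)) (by
          intro v _
          have h1 := htwo x v0 hv0 v
          have h2 := htwo y v1 hv1 v
          simp only [Finset.mem_coe, Finset.mem_product, Finset.mem_insert, Finset.mem_singleton]
          exact ⟨h1, h2⟩)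
      exact ⟨a, b, hab, (Prod.ext_iff.1 heq).1, (Prod.ext_iff.1 heq).2⟩
    obtain ⟨a, b, hab, hax, hay⟩ := hfix
    have hab0 : a + b ≠ 0 := fun hh => hab ((add_eq_zero_iff _ _).1 hh)
    have habx : P th (a + b) x = x := by rw [P_add_apply h, ← hax, P_P h]
    have haby : P th (a + b) y = y := by rw [P_add_apply h, ← hay, P_P h]
    -- an even product supported on the two orbits
    have hw : ∃ s : Equiv.Perm (Fin n), (∀ v z, s (P th v z) = P th v (s z)) ∧ (∀ z, s (s z) = z) ∧ sign s = 1 ∧
        s ≠ 1 ∧ ∀ z, (¬ ∃ u, P th u x = z) → (¬ ∃ u, P th u y = z) → s z = z := by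
      rcases Int.units_eq_one_or (sign (dl h x v0)) with h1 | h1
      · refine ⟨dl h x v0, dl_comm h x v0, dl_dl h x v0, h1, ?_, fun z hz _ => dl_of_not h v0 hz⟩
        intro hh
        apply hv0
        rw [← dl_of_mem h v0 ⟨0, by rw [P_zero h]; rfl⟩, hh]
        rfl
      rcases Int.units_eq_one_or (sign (dl h y v1)) with h2 | h2
      · refine ⟨dl h y v1, dl_comm h y v1, dl_dl h y v1, h2, ?_, fun z _ hz => dl_of_not h v1 hz⟩
        intro hh
        apply hv1
        rw [← dl_of_mem h v1 ⟨0, by rw [P_zero h]; rfl⟩, hh]
        rfl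
      refine ⟨dl h x v0 * dl h y v1, ?_, ?_, by rw [map_mul, h1, h2]; rfl, ?_, ?_⟩
      · intro v z
        rw [mul_apply, mul_apply, dl_comm, dl_comm]
      · have hcomm : ∀ z, dl h x v0 (dl h y v1 z) = dl h y v1 (dl h x v0 z) := by
          intro z
          by_cases hz : ∃ u, P th u x = z
          · rw [dl_of_mem h v0 hz, dl_comm]
            have hz' : ¬ ∃ u, P th u y = z := by
              rintro ⟨u, rfl⟩
              exact hy ((mem_orb_iff h x y u).1 hz)
            rw [dl_of_not h v1 hz', dl_of_mem h v0 hz]
          · rw [dl_of_not h v0 hz]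
            by_cases hz' : ∃ u, P th u y = z
            · rw [dl_of_mem h v1 hz', dl_of_not]
              rwa [mem_orb_iff h x z v1]
            · rw [dl_of_not h v1 hz', dl_of_not h v0 hz]
        intro z
        rw [mul_apply, mul_apply, hcomm, dl_dl h x v0, dl_dl]
      · intro hh
        apply hv0
        have h3 := congrArg (fun s : Equiv.Perm (Fin n) => s x) hh
        simp only [mul_apply, one_apply] at h3
        rw [dl_of_not h v1 hy', dl_of_mem h v0 ⟨0, by rw [P_zero h]; rfl⟩] at h3
        exact h3
      · intro z hz hz'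
        rw [mul_apply, dl_of_not h v1 hz', dl_of_not h v0 hz]
    obtain ⟨s, hs1, hs2, hs3, hs4, hs5⟩ := hw
    obtain ⟨w, hw⟩ := exists_P h hs1 hs2 hs3
    have hw0 : w ≠ 0 := by
      rintro rfl
      apply hs4
      rw [← hw, P_zero h]
    refine not_disjoint h hab0 hw0 ?_
    intro z
    by_cases hz : ∃ u, P th u x = z
    · left; exact fix_orb h habx hz
    by_cases hz' : ∃ u, P th u y = z
    · left; exact fix_orb h haby hz'
    · right
      rw [hw]
      exact hs5 z hz hz'

/-- the degree is at least 16 -/
theorem le_of_regular (h : Sit th O K0) : 16 ≤ n := by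
  obtain ⟨x, hreg, -⟩ := regular h
  have h1 := Finset.card_le_card_of_injOn (s := (Finset.univ : Finset V)) (t := (Finset.univ : Finset (Fin n)))
    (fun v => P th v x) (fun v _ => Finset.mem_univ _) (by
      intro a _ b _ hab
      have hab' : P th a x = P th b x := hab
      have h1 : P th (a + b) x = x := by rw [P_add_apply h, ← hab', P_P h]
      exact (add_eq_zero_iff _ _).1 (hreg _ h1))
  rwa [Finset.card_univ, Finset.card_univ, card_V, Fintype.card_fin] at h1

/-- the number of points outside the regular orbit -/
theorem exists_fixed (h : Sit th O K0) : ∃ (x : Fin n) (F : Finset (Fin n)), (∀ v, P th v x = x → v = 0) ∧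
    x ∉ F ∧ F.card + 16 = n ∧ ∀ y ∈ F, ∀ v, P th v y = y := by
  classical
  obtain ⟨x, hreg, hout⟩ := regular h
  refine ⟨x, (Finset.univ.image fun v => P th v x)ᶜ, hreg, ?_, ?_, ?_⟩
  · rw [Finset.mem_compl, not_not, Finset.mem_image]
    exact ⟨0, Finset.mem_univ _, by rw [P_zero h]; rfl⟩
  · have h1 : (Finset.univ.image fun v => P th v x).card = 16 := by
      rw [Finset.card_image_of_injective, Finset.card_univ, card_V]
      intro a b hab
      have hab' : P th a x = P th b x := hab
      have h1 : P th (a + b) x = x := by rw [P_add_apply h, ← hab', P_P h]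
      exact (add_eq_zero_iff _ _).1 (hreg _ h1)
    rw [Finset.card_compl, h1, Fintype.card_fin]
    have := le_of_regular h
    omega
  · intro y hy v
    refine hout y ?_ v
    rintro ⟨u, hu⟩
    rw [Finset.mem_compl] at hy
    exact hy (Finset.mem_image.2 ⟨u, Finset.mem_univ _, hu⟩)

end Alt

open Alt in
/-- **row ALTERNATING** -/
theorem row_alt {n : ℕ} {th : V → alternatingGroup (Fin n)} {O K0 : Subgroup (alternatingGroup (Fin n))}
    (h : Sit th O K0) : 16 ≤ n ∧ n ≤ 19 := by
  classical
  refine ⟨le_of_regular h, ?_⟩
  by_contra hn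
  obtain ⟨x, F, hreg, hxF, hF, hfix⟩ := exists_fixed h
  have h4 : 4 ≤ F.card := by omega
  obtain ⟨T, hTF, hT⟩ := Finset.exists_subset_card_eq h4
  obtain ⟨a, b, c, d, hab, hac, had, hbc, hbd, hcd, rfl⟩ := Finset.card_eq_four.1 hT
  have ha := hfix a (hTF (by simp))
  have hb := hfix b (hTF (by simp))
  have hc := hfix c (hTF (by simp))
  have hd := hfix d (hTF (by simp))
  have hsw : ∀ {y z : Fin n}, (∀ v, P th v y = y) → (∀ v, P th v z = z) → ∀ v w,
      Equiv.swap y z (P th v w) = P th v (Equiv.swap y z w) := by
    intro y z hy hz v w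
    by_cases h1 : w = y
    · rw [h1, hy, Equiv.swap_apply_left, hz]
    by_cases h2 : w = z
    · rw [h2, hz, Equiv.swap_apply_right, hy]
    rw [Equiv.swap_apply_of_ne_of_ne h1 h2, Equiv.swap_apply_of_ne_of_ne]
    · intro h3
      exact h1 ((P th v).injective (by rw [h3, hy]))
    · intro h3
      exact h2 ((P th v).injective (by rw [h3, hz]))
  have hcomm : Equiv.swap a b * Equiv.swap c d = Equiv.swap c d * Equiv.swap a b := by
    have hdis : (Equiv.swap a b).Disjoint (Equiv.swap c d) := by
      intro w
      by_cases h1 : w = a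
      · right; rw [h1]; exact Equiv.swap_apply_of_ne_of_ne hac had
      by_cases h2 : w = b
      · right; rw [h2]; exact Equiv.swap_apply_of_ne_of_ne hbc hbd
      left; exact Equiv.swap_apply_of_ne_of_ne h1 h2
    exact hdis.commute
  obtain ⟨w, hw⟩ := exists_P h (s := Equiv.swap a b * Equiv.swap c d) (fun v y => by
      rw [mul_apply, mul_apply, hsw hc hd, hsw ha hb])
    (fun y => by
      rw [← mul_apply]
      have : Equiv.swap a b * Equiv.swap c d * (Equiv.swap a b * Equiv.swap c d) = 1 := by
        rw [mul_assoc, ← mul_assoc (Equiv.swap c d), ← hcomm, mul_assoc, Equiv.swap_mul_self, mul_one,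
          Equiv.swap_mul_self]
      rw [this]; rfl)
    (by rw [map_mul, sign_swap hab, sign_swap hcd]; rfl)
  have hmem : ∀ y ∈ ({a, b, c, d} : Finset (Fin n)), x ≠ y := fun y hy hh => hxF (hh ▸ hTF hy)
  have hx : P th w x = x := by
    rw [hw, mul_apply, Equiv.swap_apply_of_ne_of_ne (hmem c (by simp)) (hmem d (by simp)),
      Equiv.swap_apply_of_ne_of_ne (hmem a (by simp)) (hmem b (by simp))]
  have hw0 := hreg w hx
  rw [hw0, P_zero h] at hw
  have h5 := congrArg (fun s : Equiv.Perm (Fin n) => s a) hw
  simp only [mul_apply, one_apply, Equiv.swap_apply_of_ne_of_ne hac had, Equiv.swap_apply_left] at h5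
  exact hab h5

end Cfsg.Agent.H512.LinFour
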