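import Mathlib
import Cfsg.Agent.FixBN.FieldRGD
import Cfsg.Agent.OddHalf.NI.ModelChev
import Cfsg.Agent.OddHalf.NI.Mult.SL

/-!
# Frames of commuting `SL(2, F)`: order of the stabiliser
-/

set_option autoImplicit false

namespace Cfsg.Agent.H512.LinFour.FrameA

open Subgroup
open Cfsg.Agent.FixBN.FieldRGD (uu vv dd ww)
open scoped MatrixGroups

variable {G : Type*} [Group G] {F : Type*} [Field F]

/-- `n` commuting `SL(2, F)` and a torus -/
structure Fr {n : ℕ} (d : ℕ) (T : Subgroup G) (φ : Fin n → (SL(2, F) →* G)) : Prop where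
  inj : ∀ i, Function.Injective (φ i)
  comm : ∀ i j, i ≠ j → ∀ x y, φ i x * φ j y = φ j y * φ i x
  cardT : Nat.card T * d = (Nat.card F - 1) ^ n
  dd : ∀ i c hc, φ i (dd c hc) ∈ T
  up : ∀ t ∈ T, ∀ i a, ∃ b, t * φ i (uu a) * t⁻¹ = φ i (uu b)
  lo : ∀ t ∈ T, ∀ i a, ∃ b, t * φ i (vv a) * t⁻¹ = φ i (vv b)

/-- the diagonal subgroup -/
def ddH (F : Type*) [Field F] : Fˣ →* SL(2, F) where
  toFun c := dd (c : F) c.ne_zero
  map_one' := by
    apply Subtype.ext
    show !![((1 : Fˣ) : F), 0; 0, ((1 : Fˣ) : F)⁻¹] = 1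
    rw [Units.val_one, inv_one]
    ext i j; fin_cases i <;> fin_cases j <;> rfl
  map_mul' a b := by
    apply Subtype.ext
    show !![((a * b : Fˣ) : F), 0; 0, ((a * b : Fˣ) : F)⁻¹] =
      !![(a : F), 0; 0, (a : F)⁻¹] * !![(b : F), 0; 0, (b : F)⁻¹]
    rw [Matrix.mul_fin_two, Units.val_mul, mul_inv]
    congr 1
    ext i j; fin_cases i <;> fin_cases j <;> simp

theorem ddH_inj : Function.Injective (ddH F) := by
  intro a b hab
  apply Units.ext
  have h := congrArg (fun x : SL(2, F) => x.1 0 0) hab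
  exact h

/-- the diagonal matrices -/
def Dg (F : Type*) [Field F] : Subgroup SL(2, F) := (ddH F).range

theorem card_Dg [Finite F] : Nat.card (Dg F) = Nat.card F - 1 := by
  rw [← Nat.card_units]
  exact (Nat.card_congr (MonoidHom.ofInjective ddH_inj).toEquiv).symm

theorem mem_Dg_of {x : SL(2, F)} (h1 : ∃ b, x * uu 1 * x⁻¹ = uu b) (h2 : ∃ b, x * vv 1 * x⁻¹ = vv b) :
    x ∈ Dg F := by
  obtain ⟨b, hb⟩ := h1
  obtain ⟨b', hb'⟩ := h2
  rw [mul_inv_eq_iff_eq_mul] at hb hb'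
  have e1 : (x.1 * !![1, 1; 0, 1] : Matrix (Fin 2) (Fin 2) F) = !![1, b; 0, 1] * x.1 := congrArg Subtype.val hb
  have e2 : (x.1 * !![1, 0; 1, 1] : Matrix (Fin 2) (Fin 2) F) = !![1, 0; b', 1] * x.1 := congrArg Subtype.val hb'
  have h10 : x.1 1 0 = 0 := by
    have := congrFun (congrFun e1 1) 1
    simp [Matrix.mul_apply, Fin.sum_univ_two] at this
    exact this
  have h01 : x.1 0 1 = 0 := by
    have := congrFun (congrFun e2 0) 0
    simp [Matrix.mul_apply, Fin.sum_univ_two] at this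
    exact this
  have hdet : x.1 0 0 * x.1 1 1 = 1 := by
    have := x.2
    rw [Matrix.det_fin_two, h01, zero_mul, sub_zero] at this
    exact this
  have h00 : x.1 0 0 ≠ 0 := left_ne_zero_of_mul_eq_one hdet
  refine ⟨Units.mk0 (x.1 0 0) h00, ?_⟩
  apply Subtype.ext
  show !![x.1 0 0, 0; 0, (x.1 0 0)⁻¹] = x.1
  have h11 : (x.1 0 0)⁻¹ = x.1 1 1 := (eq_inv_of_mul_eq_one_right hdet).symm
  rw [h11]
  ext i j
  fin_cases i <;> fin_cases j
  · rfl
  · exact h01.symm
  · exact h10.symm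
  · rfl

variable {n d : ℕ} {T : Subgroup G} {φ : Fin n → (SL(2, F) →* G)}

theorem Fr.pw (h : Fr d T φ) : Pairwise fun i j => ∀ x y, Commute (φ i x) (φ j y) := fun i j hij x y => h.comm i j hij x y

/-- the product map -/
def Fr.M (h : Fr d T φ) : (Fin n → SL(2, F)) →* G := MonoidHom.noncommPiCoprod φ h.pw

theorem Fr.M_single (h : Fr d T φ) (i : Fin n) (x : SL(2, F)) : h.M (Pi.mulSingle i x) = φ i x :=
  MonoidHom.noncommPiCoprod_mulSingle φ i x

theorem Fr.M_conj (h : Fr d T φ) (x : Fin n → SL(2, F)) (i : Fin n) (y : SL(2, F)) :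
    h.M x * φ i y * (h.M x)⁻¹ = φ i (x i * y * (x i)⁻¹) := by
  rw [← h.M_single, ← h.M_single, ← map_mul, ← map_inv, ← map_mul]
  congr 1
  funext j
  by_cases hj : j = i
  · subst hj; simp
  · simp [Pi.mulSingle_eq_of_ne hj]

theorem Fr.M_range (h : Fr d T φ) : h.M.range = ⨆ i, (φ i).range := MonoidHom.noncommPiCoprod_range φ

theorem Fr.range_le (h : Fr d T φ) (i : Fin n) : (φ i).range ≤ h.M.range := by
  rw [h.M_range]; exact le_iSup (fun i => (φ i).range) i

theorem Fr.comap (h : Fr d T φ) : T.comap h.M = Subgroup.pi Set.univ fun _ => Dg F := by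
  ext x
  rw [mem_comap, Subgroup.mem_pi]
  constructor
  · intro hx i _
    obtain ⟨b, hb⟩ := h.up _ hx i 1
    obtain ⟨b', hb'⟩ := h.lo _ hx i 1
    rw [h.M_conj] at hb hb'
    exact mem_Dg_of ⟨b, h.inj i hb⟩ ⟨b', h.inj i hb'⟩
  · intro hx
    change MonoidHom.noncommPiCoprod φ h.pw x ∈ T
    rw [MonoidHom.noncommPiCoprod_apply]
    refine Subgroup.noncommProd_mem T _ fun i _ => ?_
    obtain ⟨c, hc⟩ := hx i trivial
    rw [← hc]
    exact h.dd i c c.ne_zero

theorem card_pi_Dg [Finite F] (n : ℕ) :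
    Nat.card (Subgroup.pi (Set.univ : Set (Fin n)) fun _ => Dg F : Subgroup (Fin n → SL(2, F))) =
      (Nat.card F - 1) ^ n := by
  let e : (Subgroup.pi (Set.univ : Set (Fin n)) fun _ => Dg F : Subgroup (Fin n → SL(2, F))) ≃ (Fin n → Dg F) :=
    { toFun := fun x i => ⟨x.1 i, x.2 i trivial⟩
      invFun := fun x => ⟨fun i => (x i).1, fun i _ => (x i).2⟩
      left_inv := fun x => rfl
      right_inv := fun x => rfl }
  rw [Nat.card_congr e, Nat.card_fun, card_Dg]
  simp

/-- conjugation by the torus -/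
theorem Fr.T_range (h : Fr d T φ) [Finite F] {t : G} (ht : t ∈ T) (i : Fin n) :
    (φ i).range.map (MulAut.conj t).toMonoidHom = (φ i).range := by
  have key : ∀ t ∈ T, (φ i).range.map (MulAut.conj t).toMonoidHom ≤ (φ i).range := by
    intro t ht
    rintro _ ⟨_, ⟨x, rfl⟩, rfl⟩
    have h3 : Subgroup.comap (φ i) (Subgroup.comap (MulAut.conj t).toMonoidHom (φ i).range) = ⊤ := by
      refine Cfsg.Agent.OddHalf.NI.Mult.mem_of_up_lo (fun b => ?_) (fun b => ?_)
      · obtain ⟨c, hc⟩ := h.up t ht i b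
        exact ⟨uu c, hc.symm⟩
      · obtain ⟨c, hc⟩ := h.lo t ht i b
        exact ⟨vv c, hc.symm⟩
    have h4 : x ∈ Subgroup.comap (φ i) (Subgroup.comap (MulAut.conj t).toMonoidHom (φ i).range) := by
      rw [h3]; trivial
    exact h4
  refine le_antisymm (key t ht) ?_
  intro x hx
  have h1 := key t⁻¹ (inv_mem ht) ⟨x, hx, rfl⟩
  refine ⟨_, h1, ?_⟩
  simp [mul_assoc]

theorem Fr.M_range_conj (h : Fr d T φ) (x : Fin n → SL(2, F)) (i : Fin n) :
    (φ i).range.map (MulAut.conj (h.M x)).toMonoidHom = (φ i).range := by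
  ext g
  constructor
  · rintro ⟨_, ⟨y, rfl⟩, rfl⟩
    exact ⟨_, (h.M_conj x i y).symm⟩
  · rintro ⟨y, rfl⟩
    refine ⟨φ i ((x i)⁻¹ * y * x i), ⟨_, rfl⟩, ?_⟩
    refine (h.M_conj x i _).trans ?_
    congr 1
    group

theorem Fr.T_le (h : Fr d T φ) [Finite F] : T ≤ normalizer (h.M.range : Set G) := by
  have key : ∀ t ∈ T, ∀ x ∈ h.M.range, t * x * t⁻¹ ∈ h.M.range := by
    intro t ht x hx
    have h1 : h.M.range.map (MulAut.conj t).toMonoidHom ≤ h.M.range := by
      rw [h.M_range, Subgroup.map_iSup]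
      refine iSup_mono fun i => ?_
      rw [h.T_range ht i]
    exact h1 ⟨x, hx, rfl⟩
  intro t ht
  rw [mem_normalizer_iff]
  intro x
  refine ⟨key t ht x, fun hx => ?_⟩
  have h1 := key t⁻¹ (inv_mem ht) _ hx
  have h2 : t⁻¹ * (t * x * t⁻¹) * t⁻¹⁻¹ = x := by group
  rwa [h2] at h1

/-- **the order of the product of the frame and the torus** -/
theorem Fr.card_sup (h : Fr d T φ) [Finite F] [Finite G] :
    Nat.card (T ⊔ h.M.range : Subgroup G) * d = Nat.card SL(2, F) ^ n := by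
  -- `|T : T ∩ M|`
  have hn1 := Subgroup.normal_subgroupOf_of_le_normalizer h.T_le
  have hn2 := Subgroup.normal_subgroupOf_sup_of_le_normalizer h.T_le
  have e1 := Nat.card_congr (QuotientGroup.quotientInfEquivProdNormalizerQuotient T h.M.range h.T_le).toEquiv
  have c1 := card_eq_card_quotient_mul_card_subgroup (h.M.range.subgroupOf T)
  have c2 := card_eq_card_quotient_mul_card_subgroup (h.M.range.subgroupOf (T ⊔ h.M.range))
  have c3 : Nat.card (h.M.range.subgroupOf (T ⊔ h.M.range)) = Nat.card h.M.range :=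
    Nat.card_congr (subgroupOfEquivOfLe le_sup_right).toEquiv
  have c4 : Nat.card (h.M.range.subgroupOf T) = Nat.card (T.subgroupOf h.M.range) := by
    rw [Nat.card_congr ((h.M.range.subgroupOf T).equivMapOfInjective _ T.subtype_injective).toEquiv,
      Nat.card_congr ((T.subgroupOf h.M.range).equivMapOfInjective _ h.M.range.subtype_injective).toEquiv,
      subgroupOf_map_subtype, subgroupOf_map_subtype, inf_comm]
  have c5 := (T.subgroupOf h.M.range).card_mul_index
  have c6 : (T.subgroupOf h.M.range).index = (T.comap h.M).index := (Subgroup.index_comap T h.M).symm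
  have c7 := (T.comap h.M).card_mul_index
  rw [h.comap, card_pi_Dg, Nat.card_fun, Nat.card_fin] at c7
  rw [h.comap] at c6
  have hT := h.cardT
  have hpos : 0 < Nat.card (T.subgroupOf h.M.range) := Nat.card_pos
  rw [e1, c4] at c1
  rw [c3] at c2
  rw [c6] at c5
  -- `|T ⊔ M| * |T ∩ M| = |T| * |M| = |T| * |T ∩ M| * index`
  have c8 : Nat.card (T.subgroupOf h.M.range) * (Nat.card (T ⊔ h.M.range : Subgroup G) * d) =
      Nat.card (T.subgroupOf h.M.range) * Nat.card SL(2, F) ^ n := by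
    rw [← c7, ← hT, c2, c1, ← c5]
    ring
  exact Nat.eq_of_mul_eq_mul_left hpos c8

end Cfsg.Agent.H512.LinFour.FrameA
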