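import Cfsg.Agent.H512.LinFour.FrameA

/-!
# Frames of commuting `SL(2, F)`: the stabiliser and its permutation action
-/

set_option autoImplicit false

namespace Cfsg.Agent.H512.LinFour.FrameA

open Subgroup
open Cfsg.Agent.FixBN.FieldRGD (uu vv dd ww)
open scoped MatrixGroups

variable {G : Type*} [Group G] {F : Type*} [Field F] {n d : ℕ}

/-- `uu 1` and `vv 1` do not commute -/
theorem uu_vv_ne : (uu 1 : SL(2, F)) * vv 1 ≠ vv 1 * uu 1 := by
  intro h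
  have e : (!![1, 1; 0, 1] * !![1, 0; 1, 1] : Matrix (Fin 2) (Fin 2) F) = !![1, 0; 1, 1] * !![1, 1; 0, 1] :=
    congrArg Subtype.val h
  have := congrFun (congrFun e 0) 0
  simp [Matrix.mul_apply, Fin.sum_univ_two] at this

/-- the element `g` permutes the components as `σ` -/
def IsPerm (φ : Fin n → (SL(2, F) →* G)) (g : G) (σ : Equiv.Perm (Fin n)) : Prop :=
  ∀ i, (φ i).range.map (MulAut.conj g).toMonoidHom = (φ (σ i)).range

variable {T : Subgroup G} {φ : Fin n → (SL(2, F) →* G)}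

theorem Fr.range_inj (h : Fr d T φ) {i j : Fin n} (hij : (φ i).range = (φ j).range) : i = j := by
  by_contra hne
  have h1 : φ i (uu 1) ∈ (φ j).range := by rw [← hij]; exact ⟨_, rfl⟩
  obtain ⟨x, hx⟩ := h1
  have h2 := h.comm i j hne (vv 1) x
  rw [hx, ← map_mul, ← map_mul] at h2
  exact uu_vv_ne (h.inj i h2).symm

theorem Fr.perm_unique (h : Fr d T φ) {g : G} {σ τ : Equiv.Perm (Fin n)} (h1 : IsPerm φ g σ) (h2 : IsPerm φ g τ) :
    σ = τ := by
  ext1 i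
  apply h.range_inj
  rw [← h1 i, h2 i]

theorem isPerm_one : IsPerm φ 1 1 := by
  intro i
  rw [map_one]
  exact Subgroup.map_id _

theorem map_conj_mul (H : Subgroup G) (a b : G) :
    H.map (MulAut.conj (a * b)).toMonoidHom = (H.map (MulAut.conj b).toMonoidHom).map (MulAut.conj a).toMonoidHom := by
  rw [Subgroup.map_map]
  congr 1
  ext x
  simp [mul_assoc]

theorem IsPerm.mul {a b : G} {σ τ : Equiv.Perm (Fin n)} (h1 : IsPerm φ a σ) (h2 : IsPerm φ b τ) :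
    IsPerm φ (a * b) (σ * τ) := by
  intro i
  rw [map_conj_mul, h2 i, h1 (τ i)]
  rfl

theorem IsPerm.inv {a : G} {σ : Equiv.Perm (Fin n)} (h1 : IsPerm φ a σ) : IsPerm φ a⁻¹ σ⁻¹ := by
  intro i
  have h2 := h1 (σ⁻¹ i)
  have h3 : σ (σ⁻¹ i) = i := Equiv.apply_symm_apply σ i
  rw [h3] at h2
  rw [← h2, ← map_conj_mul, inv_mul_cancel, map_one]
  exact Subgroup.map_id _

/-- the stabiliser of the frame -/
def NN (φ : Fin n → (SL(2, F) →* G)) : Subgroup G where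
  carrier := {g | ∃ σ, IsPerm φ g σ}
  one_mem' := ⟨1, isPerm_one⟩
  mul_mem' := by
    rintro a b ⟨σ, h1⟩ ⟨τ, h2⟩
    exact ⟨σ * τ, h1.mul h2⟩
  inv_mem' := by
    rintro a ⟨σ, h1⟩
    exact ⟨σ⁻¹, h1.inv⟩

theorem mem_NN {g : G} : g ∈ NN φ ↔ ∃ σ, IsPerm φ g σ := Iff.rfl

/-- the permutation action -/
noncomputable def Fr.pi (h : Fr d T φ) : NN φ →* Equiv.Perm (Fin n) :=
  MonoidHom.mk' (fun g => (mem_NN.1 g.2).choose) fun a b =>
    h.perm_unique (mem_NN.1 (a * b).2).choose_spec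
      ((mem_NN.1 a.2).choose_spec.mul (mem_NN.1 b.2).choose_spec)

theorem Fr.pi_spec (h : Fr d T φ) (g : NN φ) : IsPerm φ (g : G) (h.pi g) := (mem_NN.1 g.2).choose_spec

theorem Fr.pi_eq (h : Fr d T φ) {g : NN φ} {σ : Equiv.Perm (Fin n)} (hg : IsPerm φ (g : G) σ) : h.pi g = σ :=
  h.perm_unique (h.pi_spec g) hg

theorem Fr.mem_range (h : Fr d T φ) {g : G} {σ : Equiv.Perm (Fin n)} (hg : IsPerm φ g σ) : σ ∈ h.pi.range :=
  ⟨⟨g, σ, hg⟩, h.pi_eq hg⟩

theorem Fr.sup_le (h : Fr d T φ) [Finite F] : T ⊔ h.M.range ≤ NN φ := by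
  apply _root_.sup_le
  · intro t ht
    exact ⟨1, fun i => h.T_range ht i⟩
  · rintro _ ⟨x, rfl⟩
    exact ⟨1, fun i => h.M_range_conj x i⟩

theorem Fr.sup_le_ker (h : Fr d T φ) [Finite F] : (T ⊔ h.M.range).subgroupOf (NN φ) ≤ h.pi.ker := by
  have h1 : T ⊔ h.M.range ≤ h.pi.ker.map (NN φ).subtype := by
    apply _root_.sup_le
    · intro t ht
      have h2 : IsPerm φ t 1 := fun i => h.T_range ht i
      exact ⟨⟨t, 1, h2⟩, h.pi_eq h2, rfl⟩
    · rintro _ ⟨x, rfl⟩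
      have h2 : IsPerm φ (h.M x) 1 := fun i => h.M_range_conj x i
      exact ⟨⟨h.M x, 1, h2⟩, h.pi_eq h2, rfl⟩
  intro x hx
  obtain ⟨y, hy, hyx⟩ := h1 hx
  have : y = x := Subtype.ext hyx
  rwa [← this]

theorem Fr.dvd_card (h : Fr d T φ) [Finite F] [Finite G] {m : ℕ} (hn : m ∣ Nat.card h.pi.range) :
    m * Nat.card SL(2, F) ^ n ∣ Nat.card (NN φ) * d := by
  rw [Subgroup.card_eq_card_quotient_mul_card_subgroup h.pi.ker,
    Nat.card_congr (QuotientGroup.quotientKerEquivRange h.pi).toEquiv]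
  rw [mul_assoc]
  refine Nat.mul_dvd_mul hn ?_
  rw [← h.card_sup, ← Nat.card_congr (subgroupOfEquivOfLe h.sup_le).toEquiv]
  exact Nat.mul_dvd_mul_right (card_dvd_of_le h.sup_le_ker) d

/-! ### the permutations -/

/-- a permutation of `Fin 8` from a list -/
def mk8 (f g : Fin 8 → Fin 8) (h1 : ∀ i, g (f i) = i) (h2 : ∀ i, f (g i) = i) : Equiv.Perm (Fin 8) := ⟨f, g, h1, h2⟩

def pE1 : Equiv.Perm (Fin 8) := mk8 ![1, 0, 4, 5, 2, 3, 7, 6] ![1, 0, 4, 5, 2, 3, 7, 6] (by decide) (by decide)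
def pE2 : Equiv.Perm (Fin 8) := mk8 ![2, 4, 0, 7, 1, 6, 5, 3] ![2, 4, 0, 7, 1, 6, 5, 3] (by decide) (by decide)
def pE3 : Equiv.Perm (Fin 8) := mk8 ![3, 5, 7, 0, 6, 1, 4, 2] ![3, 5, 7, 0, 6, 1, 4, 2] (by decide) (by decide)
def pA : Equiv.Perm (Fin 8) := mk8 ![0, 1, 4, 3, 2, 5, 7, 6] ![0, 1, 4, 3, 2, 5, 7, 6] (by decide) (by decide)
def pB : Equiv.Perm (Fin 8) := mk8 ![0, 1, 2, 7, 4, 6, 5, 3] ![0, 1, 2, 7, 4, 6, 5, 3] (by decide) (by decide)

/-- the dihedral group -/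
def dihFun : DihedralGroup 4 → Equiv.Perm (Fin 8)
  | .r i => (pA * pB) ^ i.val
  | .sr i => pA * (pA * pB) ^ i.val

theorem dih_mul : ∀ x y : DihedralGroup 4, dihFun (x * y) = dihFun x * dihFun y := by decide +kernel

theorem dih_inj : ∀ x : DihedralGroup 4, dihFun x = 1 → x = 1 := by decide +kernel

def dih : DihedralGroup 4 →* Equiv.Perm (Fin 8) := MonoidHom.mk' dihFun dih_mul

theorem dih_injective : Function.Injective dih := (injective_iff_map_eq_one _).2 dih_inj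

theorem dvd64 {P : Subgroup (Equiv.Perm (Fin 8))} (h1 : pE1 ∈ P) (h2 : pE2 ∈ P) (h3 : pE3 ∈ P) (hA : pA ∈ P)
    (hB : pB ∈ P) : 64 ∣ Nat.card P := by
  have e1 := MulAction.index_stabilizer P (0 : Fin 8)
  have e2 : MulAction.orbit P (0 : Fin 8) = Set.univ := by
    have key : ∀ g ∈ P, g 0 ∈ MulAction.orbit P (0 : Fin 8) := fun g hg => ⟨⟨g, hg⟩, rfl⟩
    have k : ∀ i : Fin 8, ∃ g ∈ P, g 0 = i := by
      intro i
      fin_cases i
      · exact ⟨1, P.one_mem, rfl⟩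
      · exact ⟨pE1, h1, rfl⟩
      · exact ⟨pE2, h2, rfl⟩
      · exact ⟨pE3, h3, rfl⟩
      · exact ⟨pE2 * pE1, P.mul_mem h2 h1, rfl⟩
      · exact ⟨pE3 * pE1, P.mul_mem h3 h1, rfl⟩
      · exact ⟨pE3 * (pE2 * pE1), P.mul_mem h3 (P.mul_mem h2 h1), rfl⟩
      · exact ⟨pE3 * pE2, P.mul_mem h3 h2, rfl⟩
    apply Set.eq_univ_of_forall
    intro i
    obtain ⟨g, hg, rfl⟩ := k i
    exact key g hg
  rw [e2, Set.ncard_univ, Nat.card_fin] at e1
  have e3 := (MulAction.stabilizer P (0 : Fin 8)).card_mul_index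
  rw [e1] at e3
  -- the dihedral group
  have hmem : ∀ x : DihedralGroup 4, dih x ∈ P := by
    intro x
    rcases x with i | i
    · exact P.pow_mem (P.mul_mem hA hB) _
    · exact P.mul_mem hA (P.pow_mem (P.mul_mem hA hB) _)
  have hfix : ∀ x : DihedralGroup 4, dih x 0 = 0 := by
    have : ∀ x : DihedralGroup 4, dihFun x 0 = 0 := by decide +kernel
    exact this
  let f : DihedralGroup 4 →* P := dih.codRestrict P hmem
  have hf : Function.Injective f := fun a b hab => dih_injective (congrArg Subtype.val hab)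
  have hle : f.range ≤ MulAction.stabilizer P (0 : Fin 8) := by
    rintro _ ⟨x, rfl⟩
    exact hfix x
  have e4 := card_dvd_of_le hle
  have e5 : Nat.card f.range = 8 := by
    rw [← Nat.card_congr (MonoidHom.ofInjective hf).toEquiv, Nat.card_eq_fintype_card, DihedralGroup.card]
  rw [e5] at e4
  rw [← e3]
  exact Nat.mul_dvd_mul e4 (dvd_refl 8)

end Cfsg.Agent.H512.LinFour.FrameA
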