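import Cfsg.Agent.H512.LinFour.FrameB

/-!
# Frames of eight commuting `SL(2, q)`, `q ≡ 3 mod 4`: a large abelian subgroup of exponent four
-/

set_option autoImplicit false

namespace Cfsg.Agent.H512.LinFour.FrameA

open Subgroup
open Cfsg.Agent.FixBN.FieldRGD (uu vv dd ww)
open scoped MatrixGroups

variable {F : Type*} [Field F]

theorem entries {x y : SL(2, F)} : x = y ↔ x.1 0 0 = y.1 0 0 ∧ x.1 0 1 = y.1 0 1 ∧ x.1 1 0 = y.1 1 0 ∧ x.1 1 1 = y.1 1 1 := by
  constructor
  · rintro rfl; exact ⟨rfl, rfl, rfl, rfl⟩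
  · rintro ⟨h1, h2, h3, h4⟩
    apply Subtype.ext
    ext i j
    fin_cases i <;> fin_cases j
    · exact h1
    · exact h2
    · exact h3
    · exact h4

theorem neg_one_00 : (-1 : SL(2, F)).1 0 0 = -1 := by
  rw [Matrix.SpecialLinearGroup.coe_neg]; simp
theorem neg_one_01 : (-1 : SL(2, F)).1 0 1 = 0 := by
  rw [Matrix.SpecialLinearGroup.coe_neg]; simp
theorem neg_one_10 : (-1 : SL(2, F)).1 1 0 = 0 := by
  rw [Matrix.SpecialLinearGroup.coe_neg]; simp
theorem neg_one_11 : (-1 : SL(2, F)).1 1 1 = -1 := by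
  rw [Matrix.SpecialLinearGroup.coe_neg]; simp

theorem mul_00 (x y : SL(2, F)) : (x * y).1 0 0 = x.1 0 0 * y.1 0 0 + x.1 0 1 * y.1 1 0 := by
  rw [Matrix.SpecialLinearGroup.coe_mul, Matrix.mul_apply, Fin.sum_univ_two]
theorem mul_01 (x y : SL(2, F)) : (x * y).1 0 1 = x.1 0 0 * y.1 0 1 + x.1 0 1 * y.1 1 1 := by
  rw [Matrix.SpecialLinearGroup.coe_mul, Matrix.mul_apply, Fin.sum_univ_two]
theorem mul_10 (x y : SL(2, F)) : (x * y).1 1 0 = x.1 1 0 * y.1 0 0 + x.1 1 1 * y.1 1 0 := by
  rw [Matrix.SpecialLinearGroup.coe_mul, Matrix.mul_apply, Fin.sum_univ_two]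
theorem mul_11 (x y : SL(2, F)) : (x * y).1 1 1 = x.1 1 0 * y.1 0 1 + x.1 1 1 * y.1 1 1 := by
  rw [Matrix.SpecialLinearGroup.coe_mul, Matrix.mul_apply, Fin.sum_univ_two]

theorem det_eq (x : SL(2, F)) : x.1 0 0 * x.1 1 1 - x.1 0 1 * x.1 1 0 = 1 := by
  have := x.2
  rwa [Matrix.det_fin_two] at this

/-- the only involution -/
theorem eq_of_sq (h2 : (2 : F) ≠ 0) {x : SL(2, F)} (hx : x * x = 1) : x = 1 ∨ x = -1 := by
  have hd := det_eq x
  rw [entries, mul_00, mul_01, mul_10, mul_11] at hx
  obtain ⟨e1, e2, e3, e4⟩ := hx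
  have o1 : (1 : SL(2, F)).1 0 0 = 1 := rfl
  have o2 : (1 : SL(2, F)).1 0 1 = 0 := rfl
  have o3 : (1 : SL(2, F)).1 1 0 = 0 := rfl
  have o4 : (1 : SL(2, F)).1 1 1 = 1 := rfl
  rw [o1] at e1; rw [o2] at e2; rw [o3] at e3; rw [o4] at e4
  set a := x.1 0 0 with ha
  set b := x.1 0 1 with hb
  set c := x.1 1 0 with hc
  set d := x.1 1 1 with hd'
  -- `x = x⁻¹`: `a = d`, `b = -b`
  have hb0 : b = 0 := by
    have h3 : 2 * b = 0 := by linear_combination a * e2 - b * e1 - b * hd
    exact (mul_eq_zero.1 h3).resolve_left h2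
  have hc0 : c = 0 := by
    have h3 : 2 * c = 0 := by linear_combination a * e3 - c * e1 - c * hd
    exact (mul_eq_zero.1 h3).resolve_left h2
  rw [hb0, hc0] at e1 e4 hd
  have had : a = d := by
    have h3 : a * a = 1 := by linear_combination e1
    have h4 : a * d = 1 := by linear_combination hd
    have h5 : a ≠ 0 := left_ne_zero_of_mul_eq_one h3
    exact mul_left_cancel₀ h5 (h3.trans h4.symm)
  have h3 : (a - 1) * (a + 1) = 0 := by linear_combination e1
  rcases mul_eq_zero.1 h3 with h4 | h4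
  · left
    rw [entries]
    refine ⟨?_, hb0, hc0, ?_⟩
    · rw [o1]; linear_combination h4
    · rw [o4]; linear_combination h4 - had
  · right
    rw [entries, neg_one_00, neg_one_01, neg_one_10, neg_one_11]
    refine ⟨?_, hb0, hc0, ?_⟩
    · linear_combination h4
    · linear_combination h4 - had

theorem neg_one_ne (h2 : (2 : F) ≠ 0) : (-1 : SL(2, F)) ≠ 1 := by
  intro h
  rw [entries, neg_one_00] at h
  have o1 : (1 : SL(2, F)).1 0 0 = 1 := rfl
  rw [o1] at h
  apply h2
  linear_combination -h.1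

/-- elements with square `-1` -/
theorem sq_neg_one_iff {x : SL(2, F)} : x * x = -1 ↔ x.1 1 1 = - x.1 0 0 := by
  have hd := det_eq x
  rw [entries, mul_00, mul_01, mul_10, mul_11, neg_one_00, neg_one_01, neg_one_10, neg_one_11]
  set a := x.1 0 0 with ha
  set b := x.1 0 1 with hb
  set c := x.1 1 0 with hc
  set d := x.1 1 1 with hd'
  constructor
  · rintro ⟨e1, e2, e3, e4⟩
    by_cases hb0 : b = 0
    · rw [hb0] at e1 hd
      have h3 : a * (a + d) = 0 := by linear_combination e1 + hd
      rcases mul_eq_zero.1 h3 with h4 | h4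
      · rw [h4] at hd; simp at hd
      · linear_combination h4
    · have h3 : b * (a + d) = 0 := by linear_combination e2
      rcases mul_eq_zero.1 h3 with h4 | h4
      · exact absurd h4 hb0
      · linear_combination h4
  · intro h
    rw [h] at hd ⊢
    refine ⟨?_, ?_, ?_, ?_⟩
    · linear_combination -hd
    · ring
    · ring
    · linear_combination -hd

/-- the number of the square roots of `-1` -/
theorem card_sqrt [Finite F] (h2 : (2 : F) ≠ 0) : Nat.card {a : F // a * a = -1} = 2 ∧ Nat.card F % 4 = 1 ∨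
    Nat.card {a : F // a * a = -1} = 0 ∧ Nat.card F % 4 = 3 := by
  classical
  have := Fintype.ofFinite F
  have hodd : Nat.card F % 2 = 1 := by
    rw [Nat.card_eq_fintype_card]
    exact FiniteField.odd_card_of_char_ne_two (fun hc => h2 (by
      have := CharP.cast_eq_zero F (ringChar F)
      rwa [hc, Nat.cast_ofNat] at this))
  by_cases hs : IsSquare (-1 : F)
  · left
    obtain ⟨r, hr⟩ := hs
    have hq : Nat.card F % 4 ≠ 3 := by
      have h1 : IsSquare (-1 : F) := ⟨r, hr⟩
      rw [FiniteField.isSquare_neg_one_iff, ← Nat.card_eq_fintype_card] at h1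
      exact h1
    refine ⟨?_, by omega⟩
    have hr0 : r ≠ -r := by
      intro h
      have h3 : 2 * r = 0 := by linear_combination h
      rcases mul_eq_zero.1 h3 with h4 | h4
      · exact h2 h4
      · rw [h4, mul_zero] at hr
        exact one_ne_zero (neg_eq_zero.1 hr)
    have e : {a : F // a * a = -1} ≃ ({r, -r} : Finset F) :=
      { toFun := fun a => ⟨a.1, by
          have h3 : (a.1 - r) * (a.1 + r) = 0 := by linear_combination a.2 + hr
          rw [Finset.mem_insert, Finset.mem_singleton]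
          rcases mul_eq_zero.1 h3 with h4 | h4
          · left; linear_combination h4
          · right; linear_combination h4⟩
        invFun := fun a => ⟨a.1, by
          have h3 := a.2
          rw [Finset.mem_insert, Finset.mem_singleton] at h3
          rcases h3 with h4 | h4
          · rw [h4]; exact hr.symm
          · rw [h4]; linear_combination -hr⟩
        left_inv := fun a => rfl
        right_inv := fun a => rfl }
    rw [Nat.card_congr e, Nat.card_eq_fintype_card, Fintype.card_coe, Finset.card_pair hr0]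
  · right
    have hq : Nat.card F % 4 = 3 := by
      by_contra hq
      apply hs
      rw [FiniteField.isSquare_neg_one_iff, ← Nat.card_eq_fintype_card]
      exact hq
    refine ⟨?_, hq⟩
    have : IsEmpty {a : F // a * a = -1} := ⟨fun a => hs ⟨a.1, a.2.symm⟩⟩
    exact Nat.card_of_isEmpty

/-- the set of the elements of square `-1` -/
abbrev YY (F : Type*) [Field F] : Type _ := {x : SL(2, F) // x * x = -1}

theorem key_entry {x : SL(2, F)} (hx : x * x = -1) (h0 : x.1 0 1 = 0) : x.1 0 0 * x.1 0 0 = -1 := by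
  have h1 := (sq_neg_one_iff).1 hx
  have h2 := det_eq x
  rw [h0, h1] at h2
  linear_combination -h2

/-- its parametrisation -/
noncomputable def equivYY (F : Type*) [Field F] : YY F ≃ (F × Fˣ) ⊕ ({a : F // a * a = -1} × F) := by
  classical
  exact
  { toFun := fun x => if h : x.1.1 0 1 = 0 then Sum.inr (⟨x.1.1 0 0, key_entry x.2 h⟩, x.1.1 1 0)
      else Sum.inl (x.1.1 0 0, Units.mk0 (x.1.1 0 1) h)
    invFun := fun p => p.elim
      (fun p => ⟨⟨!![p.1, (p.2 : F); -(1 + p.1 * p.1) * (p.2 : F)⁻¹, -p.1], by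
        rw [Matrix.det_fin_two_of]
        have h0 := mul_inv_cancel₀ p.2.ne_zero
        linear_combination (1 + p.1 * p.1) * h0⟩, sq_neg_one_iff.2 rfl⟩)
      (fun p => ⟨⟨!![p.1.1, 0; p.2, -p.1.1], by
        rw [Matrix.det_fin_two_of]
        linear_combination -p.1.2⟩, sq_neg_one_iff.2 rfl⟩)
    left_inv := by
      intro x
      have h1 := (sq_neg_one_iff).1 x.2
      have h2 := det_eq x.1
      by_cases h : x.1.1 0 1 = 0
      · simp only [dif_pos h, Sum.elim_inr]
        apply Subtype.ext
        rw [entries]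
        exact ⟨rfl, h.symm, rfl, h1.symm⟩
      · simp only [dif_neg h, Sum.elim_inl]
        apply Subtype.ext
        rw [entries]
        refine ⟨rfl, rfl, ?_, h1.symm⟩
        change -(1 + x.1.1 0 0 * x.1.1 0 0) * (x.1.1 0 1)⁻¹ = x.1.1 1 0
        rw [h1] at h2
        rw [mul_inv_eq_iff_eq_mul₀ h]
        linear_combination h2
    right_inv := by
      rintro (p | p)
      · have h : ((p.2 : Fˣ) : F) ≠ 0 := p.2.ne_zero
        refine (dif_neg h).trans ?_
        congr 1
        apply Prod.ext
        · rfl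
        · apply Units.ext; rfl
      · have h : (0 : F) = 0 := rfl
        exact dif_pos h }

theorem card_YY [Finite F] (h2 : (2 : F) ≠ 0) : Nat.card (YY F) % 4 = 2 := by
  rw [Nat.card_congr (equivYY F), Nat.card_sum, Nat.card_prod, Nat.card_prod, Nat.card_units]
  rcases card_sqrt h2 with ⟨h3, h4⟩ | ⟨h3, h4⟩
  · rw [h3]
    obtain ⟨k, hk⟩ : ∃ k, Nat.card F = 4 * k + 1 := ⟨Nat.card F / 4, by omega⟩
    rw [hk]
    have : (4 * k + 1) * (4 * k + 1 - 1) + 2 * (4 * k + 1) = 4 * ((4 * k + 1) * k + 2 * k) + 2 := by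
      have : 4 * k + 1 - 1 = 4 * k := by omega
      rw [this]; ring
    omega
  · rw [h3]
    obtain ⟨k, hk⟩ : ∃ k, Nat.card F = 4 * k + 3 := ⟨Nat.card F / 4, by omega⟩
    rw [hk]
    have : (4 * k + 3) * (4 * k + 3 - 1) + 0 * (4 * k + 3) = 4 * ((4 * k + 3) * k + 2 * k + 1) + 2 := by
      have : 4 * k + 3 - 1 = 4 * k + 2 := by omega
      rw [this]; ring
    omega

/-- the cyclic subgroups of order 4 -/
def XX (F : Type*) [Field F] : Set (Subgroup SL(2, F)) := {C | ∃ x : SL(2, F), x * x = -1 ∧ C = zpowers x}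

theorem orderOf_eq (h2 : (2 : F) ≠ 0) {x : SL(2, F)} (hx : x * x = -1) : orderOf x = 4 := by
  have e : x ^ (2 ^ 1) = -1 := by rw [pow_one, pow_two, hx]
  refine orderOf_eq_prime_pow (p := 2) (n := 1) ?_ ?_
  · rw [e]; exact neg_one_ne h2
  · rw [pow_succ, pow_mul, e, neg_one_sq]

theorem mem_zpowers_iff' (h2 : (2 : F) ≠ 0) {x y : SL(2, F)} (hx : x * x = -1) (hy : y * y = -1) :
    zpowers x = zpowers y ↔ y = x ∨ y = -x := by
  classical
  constructor
  · intro h
    have h1 : y ∈ zpowers x := by rw [h]; exact mem_zpowers y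
    have ho := orderOf_eq h2 hx
    have hfin : IsOfFinOrder x := orderOf_pos_iff.1 (by rw [ho]; norm_num)
    obtain ⟨n, hn, hny⟩ := (hfin.mem_zpowers_iff_mem_range_orderOf).1 h1 |> Finset.mem_image.1
    rw [Finset.mem_range, ho] at hn
    have hx2 : x ^ 2 = -1 := by rw [pow_two, hx]
    interval_cases n
    · rw [pow_zero] at hny
      rw [← hny, one_mul] at hy
      exact absurd hy.symm (neg_one_ne h2)
    · left; rw [← hny, pow_one]
    · rw [hx2] at hny
      rw [← hny, neg_mul_neg, one_mul] at hy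
      exact absurd hy.symm (neg_one_ne h2)
    · right
      rw [← hny, pow_succ, hx2, neg_one_mul]
  · rintro (rfl | rfl)
    · rfl
    · have : -x = x⁻¹ := by
        rw [eq_inv_iff_mul_eq_one, neg_mul, hx, neg_neg]
      rw [this, zpowers_inv]

/-- the number of the cyclic subgroups of order 4 is odd -/
theorem card_XX [Finite F] (h2 : (2 : F) ≠ 0) : Odd (Nat.card (XX F)) := by
  classical
  have hfin : Finite (YY F) := inferInstance
  have hfy := Fintype.ofFinite (YY F)
  let f : YY F → XX F := fun x => ⟨zpowers x.1, x.1, x.2, rfl⟩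
  have hsurj : Function.Surjective f := by
    rintro ⟨C, x, hx, rfl⟩
    exact ⟨⟨x, hx⟩, rfl⟩
  have hfx : Finite (XX F) := Finite.of_surjective f hsurj
  have hfxx := Fintype.ofFinite (XX F)
  have key : ∀ C : XX F, (Finset.univ.filter fun y : YY F => f y = C).card = 2 := by
    rintro ⟨C, x, hx, rfl⟩
    have hnx : -x * -x = -1 := by rw [neg_mul_neg, hx]
    have hne : (⟨x, hx⟩ : YY F) ≠ ⟨-x, hnx⟩ := by
      intro h
      have h3 : x = -x := congrArg Subtype.val h
      have h4 : (1 : SL(2, F)) = -1 := by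
        have h5 := congrArg (· * x⁻¹) h3
        simpa using h5
      exact neg_one_ne h2 h4.symm
    have : (Finset.univ.filter fun y : YY F => f y = ⟨zpowers x, x, hx, rfl⟩) = {⟨x, hx⟩, ⟨-x, hnx⟩} := by
      ext y
      simp only [Finset.mem_filter, Finset.mem_univ, true_and, Finset.mem_insert, Finset.mem_singleton]
      constructor
      · intro h
        have h3 : zpowers y.1 = zpowers x := congrArg Subtype.val h
        rcases (mem_zpowers_iff' h2 hx y.2).1 h3.symm with h4 | h4
        · left; exact Subtype.ext h4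
        · right; exact Subtype.ext h4
      · intro h
        apply Subtype.ext
        change zpowers y.1 = zpowers x
        refine ((mem_zpowers_iff' h2 hx y.2).2 ?_).symm
        rcases h with h | h
        · left; rw [h]
        · right; rw [h]
    rw [this, Finset.card_pair hne]
  have h3 : Fintype.card (YY F) = Fintype.card (XX F) * 2 := by
    rw [← Finset.card_univ, Finset.card_eq_sum_card_fiberwise (f := f) (t := Finset.univ) (fun _ _ => Finset.mem_univ _),
      Finset.sum_congr rfl (fun C _ => key C), Finset.sum_const, Finset.card_univ, smul_eq_mul]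
  have h4 := card_YY h2
  rw [Nat.card_eq_fintype_card, h3] at h4
  rw [Nat.card_eq_fintype_card, Nat.odd_iff]
  omega

end Cfsg.Agent.H512.LinFour.FrameA
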