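import Cfsg.Agent.H512.LinFour.FrameC
import Cfsg.Agent.H318.Four.Homo

/-!
# Frames of commuting `SL(2, q)`, `q ≡ 3 mod 4`: a large abelian subgroup of exponent four
-/

set_option autoImplicit false

namespace Cfsg.Agent.H512.LinFour.FrameA

open Subgroup
open Cfsg.Agent.FixBN.FieldRGD (uu vv dd ww)
open scoped MatrixGroups

variable {G : Type*} [Group G] {F : Type*} [Field F] {n d : ℕ} {T : Subgroup G} {φ : Fin n → (SL(2, F) →* G)}

/-- tuples of cyclic subgroups of order four -/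
abbrev Om (φ : Fin n → (SL(2, F) →* G)) : Type _ :=
  {c : Fin n → Subgroup G // ∀ i, ∃ C ∈ XX F, c i = C.map (φ i)}

theorem Fr.card_Om (h : Fr d T φ) : Nat.card (Om φ) = Nat.card (XX F) ^ n := by
  have e : (Fin n → XX F) ≃ Om φ := Equiv.ofBijective
    (fun c => (⟨fun i => (c i).1.map (φ i), fun i => ⟨(c i).1, (c i).2, rfl⟩⟩ : Om φ)) (by
      constructor
      · intro a b hab
        funext i
        apply Subtype.ext
        have h1 : (fun i => (a i).1.map (φ i)) = fun i => (b i).1.map (φ i) := congrArg Subtype.val hab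
        exact Subgroup.map_injective (h.inj i) (congrFun h1 i)
      · rintro ⟨c, hc⟩
        have hc' := hc
        choose C hC hC' using hc'
        exact ⟨fun i => ⟨C i, hC i⟩, Subtype.ext (funext fun i => (hC' i).symm)⟩)
  rw [← Nat.card_congr e, Nat.card_fun, Nat.card_fin]

/-- transport of a cyclic subgroup of order four -/
theorem Fr.transport (h : Fr d T φ) (h2 : (2 : F) ≠ 0) {g : G} {σ : Equiv.Perm (Fin n)} (hg : IsPerm φ g σ) (i : Fin n)
    {C : Subgroup SL(2, F)} (hC : C ∈ XX F) :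
    ∃ C' ∈ XX F, (C.map (φ i)).map (MulAut.conj g).toMonoidHom = C'.map (φ (σ i)) := by
  obtain ⟨x, hx, rfl⟩ := hC
  have h1 : MulAut.conj g (φ i x) ∈ (φ (σ i)).range := by
    rw [← hg i]
    exact ⟨φ i x, ⟨x, rfl⟩, rfl⟩
  obtain ⟨y, hy⟩ := h1
  have hyy : y * y = -1 := by
    have h3 : (y * y) * (y * y) = 1 := by
      apply h.inj (σ i)
      rw [map_mul, map_mul, hy, map_one, ← map_mul, ← map_mul, ← map_mul, ← map_mul, hx, neg_mul_neg, one_mul,
        map_one, map_one]
    rcases eq_of_sq h2 h3 with h4 | h4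
    · exfalso
      have h5 : φ (σ i) (y * y) = 1 := by rw [h4, map_one]
      rw [map_mul, hy, ← map_mul, ← map_mul, hx] at h5
      have h6 : φ i (-1) = 1 := (MulAut.conj g).injective (by rw [h5, map_one])
      exact neg_one_ne h2 (h.inj i (by rw [h6, map_one]))
    · exact h4
  refine ⟨zpowers y, ⟨y, hyy, rfl⟩, ?_⟩
  rw [MonoidHom.map_zpowers, MonoidHom.map_zpowers, MonoidHom.map_zpowers, hy]
  rfl

/-- the action -/
@[reducible] noncomputable def Fr.act (h : Fr d T φ) (h2 : (2 : F) ≠ 0) : MulAction (NN φ) (Om φ) where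
  smul g c := ⟨fun i => (c.1 ((h.pi g)⁻¹ i)).map (MulAut.conj (g : G)).toMonoidHom, fun i => by
    obtain ⟨C, hC, hC'⟩ := c.2 ((h.pi g)⁻¹ i)
    obtain ⟨D, hD, hD'⟩ := h.transport h2 (h.pi_spec g) ((h.pi g)⁻¹ i) hC
    have e : h.pi g ((h.pi g)⁻¹ i) = i := Equiv.apply_symm_apply _ i
    rw [e] at hD'
    refine ⟨D, hD, ?_⟩
    change (c.1 ((h.pi g)⁻¹ i)).map (MulAut.conj (g : G)).toMonoidHom = _
    rw [hC', hD']⟩
  one_smul c := by
    apply Subtype.ext
    funext i
    change (c.1 ((h.pi 1)⁻¹ i)).map (MulAut.conj ((1 : NN φ) : G)).toMonoidHom = c.1 i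
    rw [map_one, inv_one, OneMemClass.coe_one, map_one]
    exact Subgroup.map_id _
  mul_smul a b c := by
    apply Subtype.ext
    funext i
    change (c.1 ((h.pi (a * b))⁻¹ i)).map (MulAut.conj ((a * b : NN φ) : G)).toMonoidHom =
      ((c.1 ((h.pi b)⁻¹ ((h.pi a)⁻¹ i))).map (MulAut.conj (b : G)).toMonoidHom).map (MulAut.conj (a : G)).toMonoidHom
    rw [Subgroup.coe_mul, map_conj_mul, map_mul, mul_inv_rev]
    rfl

/-- the kernel of the product map is small -/
theorem Fr.ker_le (h : Fr d T φ) {x : Fin n → SL(2, F)} (hx : h.M x = 1) (i : Fin n) : x i = 1 ∨ x i = -1 := by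
  have h1 : ∀ y, x i * y = y * x i := by
    intro y
    have h2 := h.M_conj x i y
    rw [hx, one_mul, inv_one, mul_one] at h2
    have h3 := h.inj i h2
    exact (eq_mul_inv_iff_mul_eq.1 h3).symm
  have e1 := h1 (uu 1)
  have e2 := h1 (vv 1)
  have d := det_eq (x i)
  have u00 : (uu 1 : SL(2, F)).1 0 0 = 1 := rfl
  have u01 : (uu 1 : SL(2, F)).1 0 1 = 1 := rfl
  have u10 : (uu 1 : SL(2, F)).1 1 0 = 0 := rfl
  have u11 : (uu 1 : SL(2, F)).1 1 1 = 1 := rfl
  have v00 : (vv 1 : SL(2, F)).1 0 0 = 1 := rfl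
  have v01 : (vv 1 : SL(2, F)).1 0 1 = 0 := rfl
  have v10 : (vv 1 : SL(2, F)).1 1 0 = 1 := rfl
  have v11 : (vv 1 : SL(2, F)).1 1 1 = 1 := rfl
  rw [entries, mul_00, mul_01, mul_10, mul_11, mul_00, mul_01, mul_10, mul_11, u00, u01, u10, u11] at e1
  rw [entries, mul_00, mul_01, mul_10, mul_11, mul_00, mul_01, mul_10, mul_11, v00, v01, v10, v11] at e2
  set a := (x i).1 0 0 with ha
  set b := (x i).1 0 1 with hb
  set c := (x i).1 1 0 with hc
  set d' := (x i).1 1 1 with hd'
  have c0 : c = 0 := by linear_combination -e1.1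
  have b0 : b = 0 := by linear_combination e2.1
  have ad : a = d' := by linear_combination e1.2.1
  rw [b0, c0, ← ad] at d
  have h3 : (a - 1) * (a + 1) = 0 := by linear_combination d
  rcases mul_eq_zero.1 h3 with h4 | h4
  · left
    rw [entries]
    refine ⟨?_, b0, c0, ?_⟩
    · change a = 1; linear_combination h4
    · change d' = 1; linear_combination h4 - ad
  · right
    rw [entries, neg_one_00, neg_one_01, neg_one_10, neg_one_11]
    refine ⟨?_, b0, c0, ?_⟩
    · change a = -1; linear_combination h4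
    · change d' = -1; linear_combination h4 - ad

/-- the kernel of the product map, given a set of coordinates on which it is trivial -/
theorem Fr.card_ker_le (h : Fr d T φ) (J : Finset (Fin n))
    (hJ : ∀ x : Fin n → SL(2, F), h.M x = 1 → (∀ j, j ∉ J → x j = 1) → ∀ j ∈ J, x j = 1) :
    Nat.card h.M.ker ≤ 2 ^ (n - J.card) := by
  classical
  let f : h.M.ker → ((Jᶜ : Finset (Fin n)) → Bool) := fun x j => decide (x.1 j.1 = 1)
  have hf : Function.Injective f := by
    intro x y hxy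
    have h3 : ∀ j : Fin n, j ∉ J → x.1 j = y.1 j := by
      intro j hj
      have h4 : decide (x.1 j = 1) = decide (y.1 j = 1) := congrFun hxy ⟨j, Finset.mem_compl.2 hj⟩
      rw [decide_eq_decide] at h4
      rcases h.ker_le x.2 j with h5 | h5
      · rw [h5, h4.1 h5]
      · rcases h.ker_le y.2 j with h6 | h6
        · rw [h6, h4.2 h6]
        · rw [h5, h6]
    have h6 : h.M (x.1 * (y.1)⁻¹) = 1 := by
      rw [map_mul, map_inv, (MonoidHom.mem_ker.1 x.2), (MonoidHom.mem_ker.1 y.2), inv_one, one_mul]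
    have h7 := hJ _ h6 (fun j hj => by rw [Pi.mul_apply, Pi.inv_apply, h3 j hj, mul_inv_cancel])
    apply Subtype.ext
    funext j
    by_cases hj : j ∈ J
    · have h8 := h7 j hj
      rw [Pi.mul_apply, Pi.inv_apply, mul_inv_eq_one] at h8
      exact h8
    · exact h3 j hj
  have h3 := Nat.card_le_card_of_injective f hf
  refine h3.trans ?_
  rw [Nat.card_fun, Nat.card_eq_fintype_card (α := (Jᶜ : Finset (Fin n))), Fintype.card_coe, Finset.card_compl,
    Fintype.card_fin]
  simp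

/-- the kernel of the product map is proper -/
theorem Fr.card_ker_le_one (h : Fr d T φ) (i : Fin n) : Nat.card h.M.ker ≤ 2 ^ (n - 1) := by
  have h1 := h.card_ker_le {i} (by
    intro x hx hj j hj'
    rw [Finset.mem_singleton] at hj'
    subst hj'
    have h2 : x = Pi.mulSingle j (x j) := by
      funext k
      by_cases hk : k = j
      · subst hk; rw [Pi.mulSingle_eq_same]
      · rw [Pi.mulSingle_eq_of_ne hk, hj k (by rwa [Finset.mem_singleton])]
    rw [h2, h.M_single] at hx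
    exact h.inj j (by rw [hx, map_one]))
  rwa [Finset.card_singleton] at h1

/-- **A 2-subgroup of the stabiliser of the frame normalises a large abelian subgroup of exponent four.** -/
theorem Fr.exists_R (h : Fr d T φ) [Finite F] [Finite G] (h2 : (2 : F) ≠ 0) (A : Subgroup G) (hA : IsPGroup 2 A)
    (hle : A ≤ NN φ) : ∃ R : Subgroup G, (∀ a ∈ R, ∀ b ∈ R, a * b = b * a) ∧ (∀ a ∈ R, a ^ 4 = 1) ∧
      (∀ v ∈ A, ∀ a ∈ R, v * a * v⁻¹ ∈ R) ∧ 4 ^ n ≤ Nat.card h.M.ker * Nat.card R := by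
  classical
  have hfS : Finite SL(2, F) := inferInstance
  let _ := h.act h2
  have hfin : Finite (Om φ) := Nat.finite_of_card_ne_zero (by
    rw [h.card_Om]
    exact pow_ne_zero _ (card_XX h2).pos.ne')
  have hodd : ¬ 2 ∣ Nat.card (Om φ) := by
    rw [h.card_Om, ← even_iff_two_dvd, Nat.not_even_iff_odd]
    exact (card_XX h2).pow
  let A' : Subgroup (NN φ) := A.subgroupOf (NN φ)
  have hA' : IsPGroup 2 A' := hA.of_equiv (subgroupOfEquivOfLe hle).symm
  obtain ⟨c, hc⟩ := hA'.nonempty_fixed_point_of_prime_not_dvd_card (Om φ) hodd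
  have hfix : ∀ v ∈ A, ∀ (hv : v ∈ NN φ) (i : Fin n),
      (c.1 ((h.pi ⟨v, hv⟩)⁻¹ i)).map (MulAut.conj v).toMonoidHom = c.1 i := by
    intro v hvA hv i
    have h3 := hc ⟨⟨v, hv⟩, hvA⟩
    exact congrFun (congrArg Subtype.val h3) i
  choose C hC hC' using c.2
  choose x hx hxC using hC
  -- the subgroup
  let P : Subgroup (Fin n → SL(2, F)) := Subgroup.pi Set.univ C
  have hcomm : ∀ p ∈ P, ∀ q ∈ P, p * q = q * p := by
    intro p hp q hq
    funext i
    have h3 : p i ∈ C i := hp i trivial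
    have h4 : q i ∈ C i := hq i trivial
    rw [hxC i] at h3 h4
    obtain ⟨m, hm⟩ := h3
    obtain ⟨n, hn⟩ := h4
    rw [Pi.mul_apply, Pi.mul_apply, ← hm, ← hn]
    exact (Commute.refl (x i)).zpow_zpow m n
  have hexp : ∀ p ∈ P, p ^ 4 = 1 := by
    intro p hp
    funext i
    have h3 : p i ∈ C i := hp i trivial
    rw [hxC i] at h3
    obtain ⟨m, hm⟩ := h3
    have h4 : x i ^ 4 = 1 := by rw [← orderOf_eq h2 (hx i)]; exact pow_orderOf_eq_one _
    rw [Pi.pow_apply, ← hm]
    change (x i ^ m) ^ 4 = 1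
    rw [← zpow_natCast, ← zpow_mul, mul_comm, zpow_mul, zpow_natCast, h4, one_zpow]
  have hcard : Nat.card P = 4 ^ n := by
    let e : P ≃ (∀ i : Fin n, C i) :=
      { toFun := fun x i => ⟨x.1 i, x.2 i trivial⟩
        invFun := fun x => ⟨fun i => (x i).1, fun i _ => (x i).2⟩
        left_inv := fun x => rfl
        right_inv := fun x => rfl }
    rw [Nat.card_congr e, Nat.card_pi]
    have : ∀ i, Nat.card (C i) = 4 := fun i => by
      rw [hxC i, Nat.card_zpowers, orderOf_eq h2 (hx i)]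
    simp [this]
  have hPM : P.map h.M = ⨆ i, c.1 i := by
    have h3 : ∀ i, c.1 i = (C i).map (φ i) := hC'
    apply le_antisymm
    · rintro _ ⟨p, hp, rfl⟩
      change MonoidHom.noncommPiCoprod φ h.pw p ∈ _
      rw [MonoidHom.noncommPiCoprod_apply]
      refine Subgroup.noncommProd_mem _ _ fun i _ => ?_
      have h4 : φ i (p i) ∈ c.1 i := by
        rw [h3 i]
        exact ⟨p i, hp i trivial, rfl⟩
      exact le_iSup c.1 i h4
    · refine iSup_le fun i => ?_
      rw [h3 i]
      rintro _ ⟨y, hy, rfl⟩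
      refine ⟨Pi.mulSingle i y, ?_, h.M_single i y⟩
      intro j _
      by_cases hj : j = i
      · subst hj
        rw [Pi.mulSingle_eq_same]; exact hy
      · rw [Pi.mulSingle_eq_of_ne hj]
        exact (C j).one_mem
  refine ⟨P.map h.M, ?_, ?_, ?_, ?_⟩
  · rintro _ ⟨p, hp, rfl⟩ _ ⟨q, hq, rfl⟩
    rw [← map_mul, hcomm p hp q hq, map_mul]
  · rintro _ ⟨p, hp, rfl⟩
    rw [← map_pow, hexp p hp, map_one]
  · intro v hv a ha
    have hvN := hle hv
    rw [hPM] at ha ⊢
    have h3 : (⨆ i, c.1 i).map (MulAut.conj v).toMonoidHom ≤ ⨆ i, c.1 i := by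
      rw [Subgroup.map_iSup]
      refine iSup_le fun i => ?_
      have h4 := hfix v hv hvN (h.pi ⟨v, hvN⟩ i)
      have e : (h.pi ⟨v, hvN⟩)⁻¹ (h.pi ⟨v, hvN⟩ i) = i := Equiv.symm_apply_apply _ i
      rw [e] at h4
      rw [h4]
      exact le_iSup c.1 _
    exact h3 ⟨a, ha, rfl⟩
  · have h3 := Cfsg.Agent.H318.Four.Homo.card_ker_map h.M P
    rw [hcard] at h3
    have hfs : Finite (Fin n → SL(2, F)) := inferInstance
    rw [h3]
    exact Nat.mul_le_mul_right _ (Subgroup.card_le_of_le inf_le_right)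

end Cfsg.Agent.H512.LinFour.FrameA
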