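import Cfsg.Agent.H512.LinFour.FrameD
import Cfsg.Agent.ClassicalGeometry.PSL2Basic

/-!
# Frames of commuting `SL(2, q)`, `q` odd: the contradiction
-/

set_option autoImplicit false

namespace Cfsg.Agent.H512.LinFour.FrameA

open Subgroup Cfsg.Agent.H336.LinFour
open scoped MatrixGroups

variable {G : Type*} [Group G] {F : Type*} [Field F] {n d : ℕ} {T : Subgroup G} {φ : Fin n → (SL(2, F) →* G)}

/-- the stabiliser of the frame has odd index -/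
theorem Fr.odd_index (hf : Fr d T φ) [Finite G] [Finite F] {c o : ℕ} (ho : Odd o) (hc0 : 0 < c)
    (hcard : Nat.card G * d = c * (Nat.card F ^ 2 - 1) ^ n * o) (hc : c ∣ Nat.card hf.pi.range) :
    Odd (NN φ).index := by
  have := Fintype.ofFinite F
  have e2 := hf.dvd_card hc
  rw [Cfsg.Agent.ClassicalGeometry.PSL2Basic.card_SL2, ← Nat.card_eq_fintype_card, mul_pow] at e2
  have e3 := (NN φ).card_mul_index
  obtain ⟨k, hk⟩ := e2
  have e4 : (c * (Nat.card F ^ 2 - 1) ^ n) * o =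
      (c * (Nat.card F ^ 2 - 1) ^ n) * (Nat.card F ^ n * k * (NN φ).index) := by
    rw [← hcard, ← e3, mul_right_comm, hk]; ring
  have hpos : 0 < c * (Nat.card F ^ 2 - 1) ^ n := by
    have h1 : 1 < Nat.card F := Finite.one_lt_card
    have : 1 < Nat.card F ^ 2 := by nlinarith
    have : 0 < (Nat.card F ^ 2 - 1) ^ n := pow_pos (by omega) n
    exact Nat.mul_pos hc0 this
  have e5 := Nat.eq_of_mul_eq_mul_left hpos e4
  rw [e5] at ho
  exact (Nat.odd_mul.1 ho).2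

/-- **no group with a frame of odd index stabiliser and with a small kernel** -/
theorem Fr.false_of (hf : Fr d T φ) [Finite G] [Finite F] {th : V → G} {O K0 : Subgroup G} (h : Sit th O K0)
    (h2 : (2 : F) ≠ 0) (hodd : Odd (NN φ).index) (hker : Nat.card hf.M.ker * 2 ^ 8 < 4 ^ n) : False := by
  -- the subgroup `A`
  let A : Subgroup G :=
    { carrier := Set.range th
      one_mem' := ⟨0, h.zero⟩
      mul_mem' := by
        rintro _ _ ⟨u, rfl⟩ ⟨v, rfl⟩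
        exact ⟨u + v, h.add u v⟩
      inv_mem' := by
        rintro _ ⟨u, rfl⟩
        exact ⟨u, (h.inv u).symm⟩ }
  have hAp : IsPGroup 2 A := by
    rintro ⟨_, v, rfl⟩
    exact ⟨1, Subtype.ext (by change th v ^ (2 ^ 1) = 1; rw [pow_one, pow_two, h.sq])⟩
  obtain ⟨c, hc⟩ := hAp.nonempty_fixed_point_of_prime_not_dvd_card (G ⧸ NN φ) (by
    rw [← even_iff_two_dvd, Nat.not_even_iff_odd]; exact hodd)
  obtain ⟨g, rfl⟩ := QuotientGroup.mk_surjective c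
  have hg : ∀ a ∈ A, g⁻¹ * a * g ∈ NN φ := by
    intro a ha
    have h4 : ((a * g : G) : G ⧸ NN φ) = (g : G ⧸ NN φ) := hc ⟨a, ha⟩
    have h5 := QuotientGroup.eq.1 h4.symm
    rwa [← mul_assoc] at h5
  let A' : Subgroup G := A.map (MulAut.conj g⁻¹).toMonoidHom
  have hA'p : IsPGroup 2 A' := hAp.map _
  have hA' : A' ≤ NN φ := by
    rintro _ ⟨a, ha, rfl⟩
    have h4 := hg a ha
    change g⁻¹ * a * g⁻¹⁻¹ ∈ NN φ
    rwa [inv_inv]
  obtain ⟨R, hR1, hR2, hR3, hR4⟩ := hf.exists_R h2 A' hA'p hA'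
  have h5 := Cfsg.Agent.H318.Four.Homo.card_le h (R.map (MulAut.conj g).toMonoidHom) (by
      rintro _ ⟨a, ha, rfl⟩ _ ⟨b, hb, rfl⟩
      rw [← map_mul, hR1 a ha b hb, map_mul]) (by
      rintro _ ⟨a, ha, rfl⟩
      rw [← map_pow, hR2 a ha, map_one]) (by
      rintro v _ ⟨a, ha, rfl⟩
      refine ⟨g⁻¹ * th v * g * a * (g⁻¹ * th v * g)⁻¹, ?_, ?_⟩
      · refine hR3 _ ?_ a ha
        refine ⟨th v, ⟨v, rfl⟩, ?_⟩
        change g⁻¹ * th v * g⁻¹⁻¹ = _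
        rw [inv_inv]
      · change g * (g⁻¹ * th v * g * a * (g⁻¹ * th v * g)⁻¹) * g⁻¹ = th v * (g * a * g⁻¹) * (th v)⁻¹
        group)
  rw [← Nat.card_congr (R.equivMapOfInjective _ (MulAut.conj g).injective).toEquiv] at h5
  have h6 := hR4.trans (Nat.mul_le_mul_left _ h5)
  omega

/-- the 2-part of the order of `E₈(q)` -/
theorem order_eq {q : ℕ} (hq : Odd q) : ∃ o, Odd o ∧
    q ^ 120 * (q ^ 2 - 1) * (q ^ 8 - 1) * (q ^ 12 - 1) * (q ^ 14 - 1) * (q ^ 18 - 1) * (q ^ 20 - 1) * (q ^ 24 - 1) *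
      (q ^ 30 - 1) = 64 * (q ^ 2 - 1) ^ 8 * o := by
  have hpos : 0 < q ^ 2 := pow_pos hq.pos 2
  have key : ∀ m, q ^ (2 * m) - 1 = (q ^ 2 - 1) * ∑ i ∈ Finset.range m, (q ^ 2) ^ i := by
    intro m
    have h1 := Commute.geom_sum₂_mul_add (Commute.one_right (q ^ 2 - 1)) m
    have h2 : q ^ 2 - 1 + 1 = q ^ 2 := by omega
    rw [h2] at h1
    rw [pow_mul, ← h1]
    simp only [one_pow, mul_one, Nat.add_sub_cancel]
    ring
  have hx : ((q ^ 2 : ℕ) : ZMod 8) = 1 := by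
    obtain ⟨k, rfl⟩ := hq
    push_cast
    have : ∀ k : ZMod 8, (2 * k + 1) ^ 2 = 1 := by decide
    exact this k
  have hS : ∀ m, (∑ i ∈ Finset.range m, (q ^ 2) ^ i) % 8 = m % 8 := by
    intro m
    rw [← ZMod.natCast_eq_natCast_iff', Nat.cast_sum]
    simp only [Nat.cast_pow]
    have hx' : ((q : ZMod 8) ^ 2) = 1 := by rw [← hx, Nat.cast_pow]
    simp [hx']
  set S : ℕ → ℕ := fun m => ∑ i ∈ Finset.range m, (q ^ 2) ^ i with hSdef
  have k1 := key 4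
  have k2 := key 6
  have k3 := key 7
  have k4 := key 9
  have k5 := key 10
  have k6 := key 12
  have k7 := key 15
  have s1 := hS 4
  have s2 := hS 6
  have s3 := hS 7
  have s4 := hS 9
  have s5 := hS 10
  have s6 := hS 12
  have s7 := hS 15
  change q ^ 8 - 1 = (q ^ 2 - 1) * S 4 at k1
  change q ^ 12 - 1 = (q ^ 2 - 1) * S 6 at k2
  change q ^ 14 - 1 = (q ^ 2 - 1) * S 7 at k3
  change q ^ 18 - 1 = (q ^ 2 - 1) * S 9 at k4
  change q ^ 20 - 1 = (q ^ 2 - 1) * S 10 at k5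
  change q ^ 24 - 1 = (q ^ 2 - 1) * S 12 at k6
  change q ^ 30 - 1 = (q ^ 2 - 1) * S 15 at k7
  change S 4 % 8 = 4 % 8 at s1
  change S 6 % 8 = 6 % 8 at s2
  change S 7 % 8 = 7 % 8 at s3
  change S 9 % 8 = 9 % 8 at s4
  change S 10 % 8 = 10 % 8 at s5
  change S 12 % 8 = 12 % 8 at s6
  change S 15 % 8 = 15 % 8 at s7
  obtain ⟨a1, ha1⟩ : ∃ a, S 4 = 4 * (2 * a + 1) := ⟨S 4 / 8, by omega⟩
  obtain ⟨a2, ha2⟩ : ∃ a, S 6 = 2 * (2 * a + 1) := ⟨S 6 / 4, by omega⟩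
  obtain ⟨a3, ha3⟩ : ∃ a, S 7 = 2 * a + 1 := ⟨S 7 / 2, by omega⟩
  obtain ⟨a4, ha4⟩ : ∃ a, S 9 = 2 * a + 1 := ⟨S 9 / 2, by omega⟩
  obtain ⟨a5, ha5⟩ : ∃ a, S 10 = 2 * (2 * a + 1) := ⟨S 10 / 4, by omega⟩
  obtain ⟨a6, ha6⟩ : ∃ a, S 12 = 4 * (2 * a + 1) := ⟨S 12 / 8, by omega⟩
  obtain ⟨a7, ha7⟩ : ∃ a, S 15 = 2 * a + 1 := ⟨S 15 / 2, by omega⟩
  refine ⟨q ^ 120 * ((2 * a1 + 1) * (2 * a2 + 1) * (2 * a3 + 1) * (2 * a4 + 1) * (2 * a5 + 1) * (2 * a6 + 1) *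
    (2 * a7 + 1)), ?_, ?_⟩
  · have ho : ∀ a : ℕ, Odd (2 * a + 1) := fun a => ⟨a, rfl⟩
    exact hq.pow.mul (((((((ho a1).mul (ho a2)).mul (ho a3)).mul (ho a4)).mul (ho a5)).mul (ho a6)).mul (ho a7))
  · rw [k1, k2, k3, k4, k5, k6, k7, ha1, ha2, ha3, ha4, ha5, ha6, ha7]
    ring

end Cfsg.Agent.H512.LinFour.FrameA
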