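import Cfsg.Agent.H512.LinFour.FrameB
import Cfsg.Prelude.Def_ChevE7
import Cfsg.Prelude.Def_ChevStructure

/-!
# The frame of seven orthogonal roots of `E₇`: tables
-/

set_option autoImplicit false

namespace Cfsg.Agent.H512.LinFour.FrameE7

open Cfsg.Lie Cfsg.Agent.H512.LinFour.FrameA

/-! ### data -/

/-- a permutation of `Fin 7` from a list -/
def mk7 (f g : Fin 7 → Fin 7) (h1 : ∀ i, g (f i) = i) (h2 : ∀ i, f (g i) = i) : Equiv.Perm (Fin 7) := ⟨f, g, h1, h2⟩

/-- the first involution -/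
def pA : Equiv.Perm (Fin 7) := mk7 ![1, 0, 4, 3, 2, 5, 6] ![1, 0, 4, 3, 2, 5, 6] (by decide) (by decide)
/-- the second involution -/
def pB : Equiv.Perm (Fin 7) := mk7 ![5, 3, 2, 1, 4, 0, 6] ![5, 3, 2, 1, 4, 0, 6] (by decide) (by decide)

/-- the dihedral group -/
def dihFun : DihedralGroup 4 → Equiv.Perm (Fin 7)
  | .r i => (pA * pB) ^ i.val
  | .sr i => pA * (pA * pB) ^ i.val

theorem dih_mul : ∀ x y : DihedralGroup 4, dihFun (x * y) = dihFun x * dihFun y := by decide +kernel

theorem dih_inj : ∀ x : DihedralGroup 4, dihFun x = 1 → x = 1 := by decide +kernel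

/-- the dihedral group -/
def dih : DihedralGroup 4 →* Equiv.Perm (Fin 7) := MonoidHom.mk' dihFun dih_mul

theorem dih_injective : Function.Injective dih := (injective_iff_map_eq_one _).2 dih_inj

theorem dvd8 {P : Subgroup (Equiv.Perm (Fin 7))} (hA : pA ∈ P) (hB : pB ∈ P) : 8 ∣ Nat.card P := by
  have hmem : ∀ x : DihedralGroup 4, dih x ∈ P := by
    intro x
    rcases x with i | i
    · exact P.pow_mem (P.mul_mem hA hB) _
    · exact P.mul_mem hA (P.pow_mem (P.mul_mem hA hB) _)
  let f : DihedralGroup 4 →* P := dih.codRestrict P hmem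
  have hf : Function.Injective f := fun a b hab => dih_injective (congrArg Subtype.val hab)
  have e5 : Nat.card f.range = 8 := by
    rw [← Nat.card_congr (MonoidHom.ofInjective hf).toEquiv, Nat.card_eq_fintype_card, DihedralGroup.card]
  rw [← e5]
  exact f.range.card_subgroup_dvd_card

/-- word of the first involution -/
def wA : List ℕ := [4, 2, 3, 1, 3, 2, 4, 4, 3, 3, 3, 4]

/-- word of the second involution -/
def wB : List ℕ := [6, 5, 4, 2, 3, 1, 3, 2, 4, 5, 6, 5, 4, 3, 1, 3, 4, 5]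

/-- words of the roots of the frame -/
def pw : Fin 7 → List ℕ := ![[], [], [], [], [3, 4, 2, 3], [5, 6, 4, 5, 3, 4, 2, 3],
  [0, 2, 3, 4, 5, 6, 1, 3, 4, 5, 2, 3, 4, 1, 3, 2]]

/-- simple roots below the roots of the frame -/
def pj : Fin 7 → Fin 7 := ![1, 2, 4, 6, 1, 1, 0]

/-- the frame -/
def fr : Fin 7 → ℕ := ![78, 73, 66, 63, 87, 92, 125]

/-- the action of a word on the roots -/
def act (w : List ℕ) (s : ℕ) : ℕ := w.foldr (fun i s => chevE7.reflectRoot i s) s

/-- the check that the word `w` permutes the frame as `σ` -/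
def chk (w : List ℕ) (σ : Fin 7 → Fin 7) : Bool :=
  decide (∀ i : Fin 7, (act w (fr i) = fr (σ i) ∧ act w (chevE7.neg (fr i)) = chevE7.neg (fr (σ i))) ∨
    (act w (fr i) = chevE7.neg (fr (σ i)) ∧ act w (chevE7.neg (fr i)) = fr (σ i)))

theorem chkA : chk wA pA = true := by decide +kernel
theorem chkB : chk wB pB = true := by decide +kernel

theorem ltw : ∀ w ∈ [wA, wB], ∀ i ∈ w, i < 7 := by decide +kernel

theorem ltp : ∀ j : Fin 7, ∀ i ∈ pw j, i < 7 := by decide +kernel

theorem chkp : ∀ j : Fin 7, act (pw j) (chevE7.simple (pj j)) = fr j ∧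
    act (pw j) (chevE7.neg (chevE7.simple (pj j))) = chevE7.neg (fr j) := by decide +kernel

theorem fr0 : fr 0 = chevE7.simple 1 := by decide +kernel
theorem fr1 : fr 1 = chevE7.simple 2 := by decide +kernel
theorem car10 : chevE7.cartan 1 (chevE7.simple 0) = 0 := by decide +kernel
theorem car20 : chevE7.cartan 2 (chevE7.simple 0) = -1 := by decide +kernel

end Cfsg.Agent.H512.LinFour.FrameE7
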