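import Cfsg.Agent.H512.LinFour.FrameE
import Cfsg.Agent.H512.LinFour.FrameE8Data
import Cfsg.Agent.H336.LinFour.Equiv
import Cfsg.Agent.H557.ToralTypes
import Cfsg.Agent.S1065

/-!
# The frame of eight orthogonal roots of `E₈` and the row `E₈(q)`, `q` odd, of S1918
-/

set_option autoImplicit false

namespace Cfsg.Agent.H512.LinFour.FrameE8

open Subgroup Cfsg.Agent.H336.LinFour Cfsg.Agent.H512.LinFour.FrameA
open Cfsg.Lie Cfsg.Agent.ChevalleyStructure Cfsg.Agent.ChevalleyStructure.Elts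
  Cfsg.Agent.ChevalleyStructure.NPerm Cfsg.Agent.ChevalleyStructure.CoxeterGeomTypes Cfsg.Agent.Nodes.RGDChev
  Cfsg.Agent.KFacts.RgdChevCoord Cfsg.Agent.OddHalf.NI.ModelChev
open Cfsg.Agent.FixBN.FieldRGD (uu vv dd ww)
open Cfsg.Agent.Nodes.KindE (isType8)
open scoped MatrixGroups

universe u

theorem hD8 : InList chevE8 := isType8.inList

variable {K : Type u} [Field K]

/-- the group generated by two opposite root subgroups -/
def RR (K : Type u) [Field K] (r : ℕ) : Subgroup (GL chevE8.Idx K) :=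
  chevE8.rootSubgroup K r ⊔ chevE8.rootSubgroup K (chevE8.neg r)

theorem exists_phi {r : ℕ} (hr : r < chevE8.nroots) : ∃ φ : SL(2, K) →* ↥(chevE8.group K),
    (∀ a, ((φ (uu a) : ↥(chevE8.group K)) : GL chevE8.Idx K) = xG hD8 r a) ∧
    (∀ a, ((φ (vv a) : ↥(chevE8.group K)) : GL chevE8.Idx K) = xG hD8 (chevE8.neg r) a) ∧
    (∀ c hc, ((φ (dd c hc) : ↥(chevE8.group K)) : GL chevE8.Idx K) = hG hD8 r c) ∧
    φ.range.map (chevE8.group K).subtype = RR K r := by
  obtain ⟨φ, h1, h2, h3, h4, h5⟩ := exists_sl isType8 (K := K) hr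
  refine ⟨φ, fun a => ?_, fun a => ?_, h4, ?_⟩
  · rw [h1, coe_xc isType8 hr]
  · rw [h2, coe_xc_neg isType8 hr]
  · rw [h5, Subgroup.map_sup]
    have e1 : (XX chevE8 8 K (vec chevE8 8 r)).map (chevE8.group K).subtype = chevE8.rootSubgroup K r := by
      rw [← XV_vec isType8 K hr]
      exact (subgroupOf_map_subtype _ _).trans (inf_eq_left.2 (XV_le_group isType8 _))
    have e2 : (XX chevE8 8 K (-(vec chevE8 8 r))).map (chevE8.group K).subtype =
        chevE8.rootSubgroup K (chevE8.neg r) := by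
      rw [← vec_neg isType8 hr, ← XV_vec isType8 K (neg_lt isType8.inList hr)]
      exact (subgroupOf_map_subtype _ _).trans (inf_eq_left.2 (XV_le_group isType8 _))
    rw [e1, e2]
    rfl

theorem fr_lt : ∀ i : Fin 8, fr i < chevE8.nroots := by decide +kernel

/-- the frame -/
noncomputable def phi (K : Type u) [Field K] (i : Fin 8) : SL(2, K) →* ↥(chevE8.group K) :=
  (exists_phi (K := K) (fr_lt i)).choose

theorem phi_uu (i : Fin 8) (a : K) : ((phi K i (uu a) : ↥(chevE8.group K)) : GL chevE8.Idx K) = xG hD8 (fr i) a :=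
  (exists_phi (K := K) (fr_lt i)).choose_spec.1 a

theorem phi_vv (i : Fin 8) (a : K) :
    ((phi K i (vv a) : ↥(chevE8.group K)) : GL chevE8.Idx K) = xG hD8 (chevE8.neg (fr i)) a :=
  (exists_phi (K := K) (fr_lt i)).choose_spec.2.1 a

theorem phi_dd (i : Fin 8) (c : K) (hc : c ≠ 0) :
    ((phi K i (dd c hc) : ↥(chevE8.group K)) : GL chevE8.Idx K) = hG hD8 (fr i) c :=
  (exists_phi (K := K) (fr_lt i)).choose_spec.2.2.1 c hc

theorem phi_range (i : Fin 8) : (phi K i).range.map (chevE8.group K).subtype = RR K (fr i) :=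
  (exists_phi (K := K) (fr_lt i)).choose_spec.2.2.2

/-! ### words -/

/-- the product of a word -/
noncomputable def nW (K : Type u) [Field K] (w : List ℕ) : GL chevE8.Idx K :=
  (w.map fun i => nG hD8 (chevE8.simple i) (1 : K)).prod

theorem nW_mem (w : List ℕ) : nW K w ∈ chevE8.group K := by
  refine Subgroup.list_prod_mem _ ?_
  intro x hx
  obtain ⟨i, -, rfl⟩ := List.mem_map.1 hx
  exact nG_mem_group hD8 _ _

theorem conj_nW {w : List ℕ} (hw : ∀ i ∈ w, i < 8) {s : ℕ} (hs : s < chevE8.nroots) :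
    act w s < chevE8.nroots ∧ ConjRoot chevE8 K (nW K w) s (act w s) := by
  induction w with
  | nil => exact ⟨hs, conjRoot_one s⟩
  | cons i w ih =>
    obtain ⟨h1, h2⟩ := ih (fun j hj => hw j (List.mem_cons_of_mem _ hj))
    have hi : i < chevE8.rank := hw i List.mem_cons_self
    exact ⟨reflectRoot_lt hD8 hi h1, h2.mul (conjRoot_nG hD8 hi h1)⟩

theorem neg_lt8 {s : ℕ} (hs : s < chevE8.nroots) : chevE8.neg s < chevE8.nroots := NPerm.neg_lt hD8 hs

/-- conjugation of the rank one groups -/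
theorem map_RR {n : GL chevE8.Idx K} {r s : ℕ} (h : (ConjRoot chevE8 K n r s ∧
      ConjRoot chevE8 K n (chevE8.neg r) (chevE8.neg s)) ∨
      (ConjRoot chevE8 K n r (chevE8.neg s) ∧ ConjRoot chevE8 K n (chevE8.neg r) s)) :
    (RR K r).map (MulAut.conj n).toMonoidHom = RR K s := by
  unfold RR
  rw [Subgroup.map_sup]
  rcases h with ⟨h1, h2⟩ | ⟨h1, h2⟩
  · rw [h1, h2]
  · rw [h1, h2, sup_comm]

theorem isPerm_of {w : List ℕ} {σ : Equiv.Perm (Fin 8)} (hw : ∀ i ∈ w, i < 8) (h : chk w σ = true) :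
    ∃ g, IsPerm (phi K) g σ := by
  refine ⟨⟨nW K w, nW_mem w⟩, fun i => ?_⟩
  apply Subgroup.map_injective (chevE8.group K).subtype_injective
  rw [phi_range, Subgroup.map_map]
  have e : ((chevE8.group K).subtype.comp (MulAut.conj (⟨nW K w, nW_mem w⟩ : ↥(chevE8.group K))).toMonoidHom) =
      (MulAut.conj (nW K w)).toMonoidHom.comp (chevE8.group K).subtype := by
    ext x; rfl
  rw [e, ← Subgroup.map_map, phi_range]
  apply map_RR
  have h1 := of_decide_eq_true h i
  have h2 := (conj_nW (K := K) hw (fr_lt i)).2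
  have h3 := (conj_nW (K := K) hw (neg_lt8 (fr_lt i))).2
  rcases h1 with ⟨h4, h5⟩ | ⟨h4, h5⟩
  · left
    rw [h4] at h2
    rw [h5] at h3
    exact ⟨h2, h3⟩
  · right
    rw [h4] at h2
    rw [h5] at h3
    exact ⟨h2, h3⟩

/-! ### the frame -/

set_option backward.isDefEq.respectTransparency false in
theorem car8 : ∀ i : Fin 8, ∃ j : Fin 8, cartanOf chevE8 8 i j = -1 := by decide +kernel

theorem card_range (i : Fin 8) [Finite K] : Nat.card (phi K i).range = Nat.card SL(2, K) := by
  obtain ⟨p, hp⟩ := CharP.exists K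
  have := Fintype.ofFinite K
  have hpr : Fact p.Prime := ⟨CharP.char_is_prime K p⟩
  obtain ⟨j, hj⟩ := car8 (pj i)
  have h1 := sl_injective isType8 (K := K) p hj
  have h2 : (sl isType8 (K := K) (pj i)).range.map (chevE8.group K).subtype = RR K (chevE8.simple (pj i)) := by
    have hs := simple_lt isType8.inList (lt_rank isType8 (pj i))
    rw [range_sl, ← vec_simple isType8 (pj i), Subgroup.map_sup]
    have e1 : (XX chevE8 8 K (vec chevE8 8 (chevE8.simple (pj i)))).map (chevE8.group K).subtype =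
        chevE8.rootSubgroup K (chevE8.simple (pj i)) := by
      rw [← XV_vec isType8 K hs]
      exact (subgroupOf_map_subtype _ _).trans (inf_eq_left.2 (XV_le_group isType8 _))
    have e2 : (XX chevE8 8 K (-(vec chevE8 8 (chevE8.simple (pj i))))).map (chevE8.group K).subtype =
        chevE8.rootSubgroup K (chevE8.neg (chevE8.simple (pj i))) := by
      rw [← vec_neg isType8 hs, ← XV_vec isType8 K (neg_lt isType8.inList hs)]
      exact (subgroupOf_map_subtype _ _).trans (inf_eq_left.2 (XV_le_group isType8 _))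
    rw [e1, e2]
    rfl
  have hs := simple_lt isType8.inList (lt_rank isType8 (pj i))
  have h3 := (conj_nW (K := K) (ltp i) hs).2
  have h4 := (conj_nW (K := K) (ltp i) (neg_lt8 hs)).2
  rw [(chkp i).1] at h3
  rw [(chkp i).2] at h4
  have h5 := map_RR (Or.inl ⟨h3, h4⟩)
  rw [Nat.card_congr ((phi K i).range.equivMapOfInjective _ (chevE8.group K).subtype_injective).toEquiv, phi_range,
    ← h5, ← Nat.card_congr ((RR K (chevE8.simple (pj i))).equivMapOfInjective _ (MulAut.conj _).injective).toEquiv,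
    ← h2, ← Nat.card_congr ((sl isType8 (K := K) (pj i)).range.equivMapOfInjective _
      (chevE8.group K).subtype_injective).toEquiv]
  exact (Nat.card_congr (MonoidHom.ofInjective h1).toEquiv).symm

theorem phi_injective (i : Fin 8) [Finite K] : Function.Injective (phi K i) := by
  have h1 := Cfsg.Agent.H318.Four.Homo.card_ker_range (phi K i)
  rw [card_range i] at h1
  have hfin : Finite SL(2, K) := inferInstance
  have hpos : 0 < Nat.card SL(2, K) := Nat.card_pos
  have h2 : Nat.card (phi K i).ker = 1 := by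
    have : Nat.card (phi K i).ker * Nat.card SL(2, K) = 1 * Nat.card SL(2, K) := by rw [← h1, one_mul]
    exact Nat.eq_of_mul_eq_mul_right hpos this
  rw [Subgroup.card_eq_one] at h2
  exact (MonoidHom.ker_eq_bot_iff _).1 h2

theorem chkc : ∀ i j : Fin 8, i ≠ j → (fr j ≠ fr i ∧ fr j ≠ chevE8.neg (fr i) ∧ chevE8.commTerms (fr i) (fr j) = []) ∧
    (fr j ≠ chevE8.neg (fr i) ∧ fr j ≠ chevE8.neg (chevE8.neg (fr i)) ∧
      chevE8.commTerms (chevE8.neg (fr i)) (fr j) = []) ∧
    (chevE8.neg (fr j) ≠ chevE8.neg (fr i) ∧ chevE8.neg (fr j) ≠ chevE8.neg (chevE8.neg (fr i)) ∧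
      chevE8.commTerms (chevE8.neg (fr i)) (chevE8.neg (fr j)) = []) := by decide +kernel

theorem comm_of {r s : ℕ} (hr : r < chevE8.nroots) (hs : s < chevE8.nroots)
    (h : s ≠ r ∧ s ≠ chevE8.neg r ∧ chevE8.commTerms r s = []) (t u : K) :
    xG hD8 r t * xG hD8 s u = xG hD8 s u * xG hD8 r t := by
  have h1 := comm_xG isType8 (K := K) hr hs h.1 h.2.1 t u
  have h2 : chevE8.commWord K r s t u = [] := by
    rw [ChevalleyDatum.commWord, h.2.2]; rfl
  rw [h2, wordG_nil, commutatorElement_def, inv_inv, inv_inv] at h1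
  have h3 : (xG hD8 s u)⁻¹ * (xG hD8 r t)⁻¹ * xG hD8 s u * xG hD8 r t =
      (xG hD8 r t * xG hD8 s u)⁻¹ * (xG hD8 s u * xG hD8 r t) := by group
  have h4 := h3.symm.trans h1
  rw [inv_mul_eq_one] at h4
  exact h4

theorem phi_comm {i j : Fin 8} (hij : i ≠ j) (x y : SL(2, K)) : phi K i x * phi K j y = phi K j y * phi K i x := by
  obtain ⟨c1, c2, c3⟩ := chkc i j hij
  obtain ⟨c4, c5, c6⟩ := chkc j i hij.symm
  have hi := fr_lt i
  have hj := fr_lt j
  have uu_uu : ∀ a b, phi K i (uu a) * phi K j (uu b) = phi K j (uu b) * phi K i (uu a) := fun a b => by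
    apply Subtype.ext
    rw [Subgroup.coe_mul, Subgroup.coe_mul, phi_uu, phi_uu]
    exact comm_of hi hj c1 a b
  have vv_uu : ∀ a b, phi K i (vv a) * phi K j (uu b) = phi K j (uu b) * phi K i (vv a) := fun a b => by
    apply Subtype.ext
    rw [Subgroup.coe_mul, Subgroup.coe_mul, phi_vv, phi_uu]
    exact comm_of (neg_lt8 hi) hj c2 a b
  have uu_vv : ∀ a b, phi K i (uu a) * phi K j (vv b) = phi K j (vv b) * phi K i (uu a) := fun a b => by
    apply Subtype.ext
    rw [Subgroup.coe_mul, Subgroup.coe_mul, phi_vv, phi_uu]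
    exact (comm_of (neg_lt8 hj) hi c5 b a).symm
  have vv_vv : ∀ a b, phi K i (vv a) * phi K j (vv b) = phi K j (vv b) * phi K i (vv a) := fun a b => by
    apply Subtype.ext
    rw [Subgroup.coe_mul, Subgroup.coe_mul, phi_vv, phi_vv]
    exact comm_of (neg_lt8 hi) (neg_lt8 hj) c3 a b
  -- from the unipotents to everything
  have key : ∀ z : ↥(chevE8.group K), (∀ a, phi K i (uu a) * z = z * phi K i (uu a)) →
      (∀ a, phi K i (vv a) * z = z * phi K i (vv a)) → ∀ x, phi K i x * z = z * phi K i x := by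
    intro z h1 h2 x
    have h3 : (centralizer {z}).comap (phi K i) = ⊤ :=
      Cfsg.Agent.OddHalf.NI.Mult.mem_of_up_lo (fun a => mem_centralizer_singleton_iff.2 (h1 a))
        (fun a => mem_centralizer_singleton_iff.2 (h2 a))
    have h4 : x ∈ (centralizer {z}).comap (phi K i) := by rw [h3]; trivial
    exact mem_centralizer_singleton_iff.1 h4
  have key' : ∀ z : ↥(chevE8.group K), (∀ a, phi K j (uu a) * z = z * phi K j (uu a)) →
      (∀ a, phi K j (vv a) * z = z * phi K j (vv a)) → ∀ x, phi K j x * z = z * phi K j x := by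
    intro z h1 h2 x
    have h3 : (centralizer {z}).comap (phi K j) = ⊤ :=
      Cfsg.Agent.OddHalf.NI.Mult.mem_of_up_lo (fun a => mem_centralizer_singleton_iff.2 (h1 a))
        (fun a => mem_centralizer_singleton_iff.2 (h2 a))
    have h4 : x ∈ (centralizer {z}).comap (phi K j) := by rw [h3]; trivial
    exact mem_centralizer_singleton_iff.1 h4
  refine (key' (phi K i x) (fun b => ?_) (fun b => ?_) y).symm
  · exact (key (phi K j (uu b)) (fun a => uu_uu a b) (fun a => vv_uu a b) x).symm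
  · exact (key (phi K j (vv b)) (fun a => uu_vv a b) (fun a => vv_vv a b) x).symm

/-- the torus -/
def TT8 (K : Type u) [Field K] : Subgroup ↥(chevE8.group K) := (chevE8.diagonalSubgroup K).subgroupOf (chevE8.group K)

theorem conj_torus {t : ↥(chevE8.group K)} (ht : t ∈ TT8 K) {r : ℕ} (hr : r < chevE8.nroots) (a : K) :
    ∃ b, (t : GL chevE8.Idx K) * xG hD8 r a * (t : GL chevE8.Idx K)⁻¹ = xG hD8 r b := by
  have h1 := conjRoot_diagonal hD8 (F := K) (mem_subgroupOf.1 ht) hr
  have h2 : (MulAut.conj (t : GL chevE8.Idx K)).toMonoidHom (xG hD8 r a) ∈ chevE8.rootSubgroup K r := by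
    rw [← h1]
    exact ⟨_, xG_mem_rootSubgroup hD8 r a, rfl⟩
  exact (mem_rootSubgroup_iff hD8 r _).1 h2

theorem frame (K : Type u) [Field K] [Finite K] : Fr 1 (TT8 K) (phi K) where
  inj i := phi_injective i
  comm i j hij := phi_comm hij
  cardT := by
    have := Fintype.ofFinite K
    have h1 := Cfsg.Agent.S1035.result (F := K) rfl (chevE8, 1) (by simp)
    rw [one_mul] at h1
    have hle : chevE8.diagonalSubgroup K ≤ chevE8.group K := diagonal_le_group hD8 K
    rw [Nat.card_eq_fintype_card (α := K), mul_one]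
    refine Eq.trans ?_ h1
    exact Nat.card_congr (Subgroup.subgroupOfEquivOfLe hle).toEquiv
  dd i c hc := by
    refine mem_subgroupOf.2 ?_
    rw [phi_dd]
    exact hG_mem_diagonal hD8 (fr_lt i) hc
  up t ht i a := by
    obtain ⟨b, hb⟩ := conj_torus ht (fr_lt i) a
    refine ⟨b, Subtype.ext ?_⟩
    rw [phi_uu, ← hb, Subgroup.coe_mul, Subgroup.coe_mul, phi_uu]
    rfl
  lo t ht i a := by
    obtain ⟨b, hb⟩ := conj_torus ht (neg_lt8 (fr_lt i)) a
    refine ⟨b, Subtype.ext ?_⟩
    rw [phi_vv, ← hb, Subgroup.coe_mul, Subgroup.coe_mul, phi_vv]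
    rfl

/-- **row `E₈(q)`, `q` odd** -/
theorem row_E8 {G : Type*} [Group G] {th : V → G} {O K0 : Subgroup G} (h : Sit th O K0) {F : Type u} [Field F]
    [Fintype F] (ho : Odd (Fintype.card F)) (e : G ≃* chevE8.group F) : False := by
  have h' := h.equiv e
  have hfin : Finite ↥(chevE8.group F) := inferInstance
  have h2 : (2 : F) ≠ 0 := by
    intro h20
    have h3 := FiniteField.even_card_of_char_two (F := F) (by
      rw [ringChar.eq_iff]
      exact CharTwo.of_one_ne_zero_of_two_eq_zero one_ne_zero h20)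
    rw [Nat.odd_iff] at ho
    omega
  rw [← Nat.card_eq_fintype_card] at ho
  obtain ⟨o, ho', hcard⟩ := order_eq ho
  have hf := frame F
  have hi : ∀ {w : List ℕ} {σ : Equiv.Perm (Fin 8)}, (∀ i ∈ w, i < 8) → chk w σ = true → σ ∈ hf.pi.range := by
    intro w σ hw hc
    obtain ⟨g, hg⟩ := isPerm_of (K := F) hw hc
    exact hf.mem_range hg
  refine hf.false_of h' h2 (hf.odd_index ho' (c := 64) (by norm_num) ?_ ?_) ?_
  · rw [mul_one, ← hcard]
    exact Cfsg.Agent.S1065.result Nat.card_eq_fintype_card.symm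
  · exact dvd64 (hi (ltw _ (by simp)) chkE1) (hi (ltw _ (by simp)) chkE2) (hi (ltw _ (by simp)) chkE3)
      (hi (ltw _ (by simp)) chkA) (hi (ltw _ (by simp)) chkB)
  · have h3 := hf.card_ker_le_one 0
    calc _ ≤ 2 ^ (8 - 1) * 2 ^ 8 := Nat.mul_le_mul_right _ h3
      _ < _ := by norm_num

/-- **row `E₈(q)`, `q ≡ 3 mod 4`** -/
theorem row_E8_three {G : Type*} [Group G] {th : V → G} {O K0 : Subgroup G} (h : Sit th O K0) {F : Type u} [Field F]
    [Fintype F] (hq : Fintype.card F % 4 = 3) (e : G ≃* chevE8.group F) : False :=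
  row_E8 h (Nat.odd_iff.2 (by omega)) e

end Cfsg.Agent.H512.LinFour.FrameE8
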