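import Cfsg.Agent.H511.LinFour.Wt

/-!
# The ideal generated by the nonzero weights

In a Lie algebra `W` on which the elementary abelian subgroup `A` of order 16 acts by automorphisms:
`J = {w | w₀ ∈ D}`, `D` the span of all `[x, y]`, `x`, `y` in the same nonzero weight space, is an ideal. If the nonzero
weight spaces have dimension 2 then `D` has dimension at most 15.
-/

set_option autoImplicit false

namespace Cfsg.Agent.H512.LinFour.IdealW

open Cfsg.Agent.H336.LinFour Cfsg.Agent.H511.LinFour Cfsg.Agent.H336.LinFour.Wt Cfsg.Agent.H351.SpSix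

variable {F : Type*} [Field F] {W : Type*} [AddCommGroup W] [Module F W]
  {K : Type*} [Group K] {ρ : K →* Module.End F W} {th : V → K} {O K0 : Subgroup K}

/-- products of weight vectors -/
theorem mul_mem_wt (B : W →ₗ[F] W →ₗ[F] W) (hB : ∀ v x y, ρ (th v) (B x y) = B (ρ (th v) x) (ρ (th v) y))
    {u u' : V} {x y : W} (hx : x ∈ wt ρ th u) (hy : y ∈ wt ρ th u') : B x y ∈ wt ρ th (u + u') := by
  intro v
  rw [hB, hx v, hy v, map_smul, map_smul, LinearMap.smul_apply, smul_smul, dt_add_left, sg_add, mul_comm]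

variable (ρ th) in
/-- the span of the products of the nonzero weight spaces with themselves -/
def D (B : W →ₗ[F] W →ₗ[F] W) : Submodule F W :=
  Submodule.span F {w | ∃ u, u ≠ 0 ∧ ∃ x ∈ wt ρ th u, ∃ y ∈ wt ρ th u, w = B x y}

theorem mem_D (B : W →ₗ[F] W →ₗ[F] W) {u : V} (hu : u ≠ 0) {x y : W} (hx : x ∈ wt ρ th u) (hy : y ∈ wt ρ th u) :
    B x y ∈ D ρ th B := Submodule.subset_span ⟨u, hu, x, hx, y, hy, rfl⟩

theorem D_le (B : W →ₗ[F] W →ₗ[F] W) (hB : ∀ v x y, ρ (th v) (B x y) = B (ρ (th v) x) (ρ (th v) y)) :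
    D ρ th B ≤ wt ρ th 0 := by
  refine Submodule.span_le.2 ?_
  rintro _ ⟨u, -, x, hx, y, hy, rfl⟩
  have := mul_mem_wt B hB hx hy
  rwa [v_add_self] at this

theorem zero_mul_D (B : W →ₗ[F] W →ₗ[F] W) (hB : ∀ v x y, ρ (th v) (B x y) = B (ρ (th v) x) (ρ (th v) y))
    (hJ : ∀ x y z, B x (B y z) = B (B x y) z + B y (B x z)) {x w : W} (hx : x ∈ wt ρ th 0) (hw : w ∈ D ρ th B) :
    B x w ∈ D ρ th B := by
  induction hw using Submodule.span_induction with
  | mem w hw =>
    obtain ⟨u, hu, y, hy, z, hz, rfl⟩ := hw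
    rw [hJ]
    have h1 := mul_mem_wt B hB hx hy
    have h3 := mul_mem_wt B hB hx hz
    rw [zero_add] at h1 h3
    exact Submodule.add_mem _ (mem_D B hu h1 hz) (mem_D B hu hy h3)
  | zero => rw [map_zero]; exact Submodule.zero_mem _
  | add a b _ _ ha hb => rw [map_add]; exact Submodule.add_mem _ ha hb
  | smul c a _ ha => rw [map_smul]; exact Submodule.smul_mem _ _ ha

/-- **the ideal** -/
theorem ideal (h : Sit th O K0) (h2 : (2 : F) ≠ 0) (B : W →ₗ[F] W →ₗ[F] W)
    (hB : ∀ v x y, ρ (th v) (B x y) = B (ρ (th v) x) (ρ (th v) y))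
    (hJ : ∀ x y z, B x (B y z) = B (B x y) z + B y (B x z))
    (x : W) {w : W} (hw : pr ρ th 0 w ∈ D ρ th B) : pr ρ th 0 (B x w) ∈ D ρ th B := by
  have h3 : B x w = ∑ u : V, ∑ u' : V, B (pr ρ th u x) (pr ρ th u' w) := by
    conv_lhs => rw [← sum_pr (ρ := ρ) h h2 x, ← sum_pr (ρ := ρ) h h2 w]
    rw [map_sum, map_sum, Finset.sum_congr rfl fun u _ => LinearMap.sum_apply _ _ _, Finset.sum_comm]
  rw [h3, map_sum]
  refine Submodule.sum_mem _ fun u _ => ?_
  rw [map_sum]
  refine Submodule.sum_mem _ fun u' _ => ?_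
  have h4 := mul_mem_wt B hB (pr_mem (ρ := ρ) h u x) (pr_mem (ρ := ρ) h u' w)
  by_cases huu : u = u'
  · subst huu
    rw [v_add_self] at h4
    rw [pr_self h2 h4]
    by_cases hu : u = 0
    · subst hu
      exact zero_mul_D B hB hJ (pr_mem h 0 x) hw
    · exact mem_D B hu (pr_mem h u x) (pr_mem h u w)
  · rw [pr_ne h2 (fun hh => huu ((add_eq_zero_iff _ _).1 hh.symm)) h4]
    exact Submodule.zero_mem _

theorem pr_zero_th (h : Sit th O K0) (v : V) (w : W) : pr ρ th 0 (ρ (th v) w - w) = 0 := by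
  rw [map_sub, sub_eq_zero, pr_apply, pr_apply]
  congr 1
  refine Fintype.sum_equiv (Equiv.addRight v) _ _ fun v' => ?_
  rw [Equiv.coe_addRight, dt_zero_left, dt_zero_left, h.add, map_mul, Module.End.mul_apply]

/-- products in a space of dimension two -/
theorem exists_gen (B : W →ₗ[F] W →ₗ[F] W) (halt : ∀ x, B x x = 0) {U : Submodule F W}
    (h1 : Module.finrank F U = 2) : ∃ d : W, ∀ x ∈ U, ∀ y ∈ U, B x y ∈ Submodule.span F {d} := by
  have hanti : ∀ x y, B y x = - B x y := by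
    intro x y
    have h3 := halt (x + y)
    simp only [map_add, LinearMap.add_apply, halt, zero_add, add_zero] at h3
    rw [add_comm] at h3
    exact (neg_eq_of_add_eq_zero_right h3).symm
  have : FiniteDimensional F U := Module.finite_of_finrank_pos (by omega)
  let b := Module.finBasisOfFinrankEq F U h1
  refine ⟨B (b 0) (b 1), fun x hx y hy => ?_⟩
  have hx' := b.sum_repr ⟨x, hx⟩
  have hy' := b.sum_repr ⟨y, hy⟩
  rw [Fin.sum_univ_two] at hx' hy'
  have hx2 : x = b.repr ⟨x, hx⟩ 0 • (b 0 : W) + b.repr ⟨x, hx⟩ 1 • (b 1 : W) := by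
    have := congrArg Subtype.val hx'
    simpa using this.symm
  have hy2 : y = b.repr ⟨y, hy⟩ 0 • (b 0 : W) + b.repr ⟨y, hy⟩ 1 • (b 1 : W) := by
    have := congrArg Subtype.val hy'
    simpa using this.symm
  rw [hx2, hy2]
  simp only [map_add, map_smul, LinearMap.add_apply, LinearMap.smul_apply, halt, smul_zero, zero_add, add_zero,
    hanti (b 0 : W) (b 1 : W)]
  refine Submodule.add_mem _ ?_ ?_
  · exact Submodule.smul_mem _ _ (Submodule.smul_mem _ _
      (Submodule.neg_mem _ (Submodule.mem_span_singleton_self _)))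
  · exact Submodule.smul_mem _ _ (Submodule.smul_mem _ _ (Submodule.mem_span_singleton_self _))

/-- **the dimension** -/
theorem finrank_D_le [FiniteDimensional F W] (B : W →ₗ[F] W →ₗ[F] W) (halt : ∀ x, B x x = 0)
    (h1 : ∀ u, u ≠ 0 → Module.finrank F (wt ρ th u) = 2) : Module.finrank F (D ρ th B) ≤ 15 := by
  classical
  have hex : ∀ u : {u : V // u ≠ 0}, ∃ d : W, ∀ x ∈ wt ρ th u.1, ∀ y ∈ wt ρ th u.1, B x y ∈ Submodule.span F {d} :=
    fun u => exists_gen B halt (h1 u.1 u.2)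
  choose d hd using hex
  have hle : D ρ th B ≤ Submodule.span F (Set.range d) := by
    refine Submodule.span_le.2 ?_
    rintro _ ⟨u, hu, x, hx, y, hy, rfl⟩
    have h3 := hd ⟨u, hu⟩ x hx y hy
    exact Submodule.span_mono (by
      rintro _ rfl
      exact ⟨⟨u, hu⟩, rfl⟩) h3
  refine (Submodule.finrank_mono hle).trans ((finrank_range_le_card d).trans ?_)
  rw [Fintype.card_subtype_compl (fun u : V => u = 0), Fintype.card_subtype_eq, card_V]

end Cfsg.Agent.H512.LinFour.IdealW
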