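import Cfsg.Agent.H512.LinFour.IdealW
import Cfsg.Agent.H512.LinFour.IdealF
import Cfsg.Agent.H512.LinFour.RankF4
import Cfsg.Agent.H351.SpSix.Rep
import Cfsg.Prelude.Def_LieChev

/-!
# No `Sit` in `F4(q)`, `q` odd (row of S1918)

Weights of `A = 2⁴` on the Lie algebra of dimension `52`: involutions have rank 16 or 28, so the nonzero weights have
multiplicity 2 and the zero weight space has dimension 22. The ideal `J` of `IdealW` is everything, so `22 ≤ 15`.
-/

set_option autoImplicit false

namespace Cfsg.Agent.H512.LinFour.RowF4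

open Cfsg Cfsg.Lie Matrix
open Cfsg.Agent.ChevalleyStructure Cfsg.Agent.ChevalleyStructure.LieAbs Cfsg.Agent.ChevalleyStructure.JacMain
  Cfsg.Agent.ChevalleyStructure.JacBridge Cfsg.Agent.ChevalleyStructure.JacTab Cfsg.Agent.ChevalleyStructure.LieAut
open Cfsg.Agent.H336.LinFour Cfsg.Agent.H511.LinFour Cfsg.Agent.H512.LinFour.IdealW
open Cfsg.Agent.H351.SpSix (rep rep_apply rep_ne_one two_ne_zero_of_odd)

theorem anti_int (v w : chevF4.Idx → ℤ) : adv (adA chevF4) v *ᵥ w = - (adv (adA chevF4) w *ᵥ v) := by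
  have hs := fun (r : ℕ) (hr : r < chevF4.nroots) => (Good.goodAt_of_mem chevF4 (by simp) r hr).sorted
  have B := bridge_sound chevF4 JacDataF4.Rs JacDataF4.Hs JacF4.bridge_ok hs
  have G := good_of_bridge B JacF4.anti_ok
  rw [← AX_eq_adA B (fun r hr => (Good.goodAt_of_mem chevF4 (by simp) r hr).neg_ne) hs]
  exact G.adv_antisymm v w

theorem anti_entry (x y z : chevF4.Idx) : adA chevF4 x z y = - adA chevF4 y z x := by
  have h := congrFun (anti_int (Pi.single x 1) (Pi.single y 1)) z
  rw [adv_single_one, adv_single_one, Pi.neg_apply, Matrix.mulVec_single_one, Matrix.mulVec_single_one,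
    Matrix.col_apply, Matrix.col_apply] at h
  exact h

/-- the product is alternating -/
theorem adv_self {F : Type*} [Field F] (h2 : (2 : F) ≠ 0) (v : chevF4.Idx → F) :
    adv (adR chevF4 F) v *ᵥ v = 0 := by
  funext z
  rw [Pi.zero_apply]
  have h1 : (adv (adR chevF4 F) v *ᵥ v) z = ∑ x, ∑ y, v x * v y * adR chevF4 F x z y := by
    unfold adv
    rw [Matrix.sum_mulVec, Finset.sum_apply]
    refine Finset.sum_congr rfl fun x _ => ?_
    rw [Matrix.smul_mulVec, Pi.smul_apply, Matrix.mulVec, dotProduct, smul_eq_mul, Finset.mul_sum]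
    exact Finset.sum_congr rfl fun y _ => by ring
  have h3 : (∑ x, ∑ y, v x * v y * adR chevF4 F x z y) = - ∑ x, ∑ y, v x * v y * adR chevF4 F x z y := by
    conv_lhs => rw [Finset.sum_comm]
    rw [← Finset.sum_neg_distrib]
    refine Finset.sum_congr rfl fun x _ => ?_
    rw [← Finset.sum_neg_distrib]
    refine Finset.sum_congr rfl fun y _ => ?_
    have h4 : adR chevF4 F y z x = - adR chevF4 F x z y := by
      rw [adR_def, adR_def, Matrix.map_apply, Matrix.map_apply, anti_entry y x z, map_neg]
    rw [h4]; ring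
  rw [h1]
  have h4 : (2 : F) * ∑ x, ∑ y, v x * v y * adR chevF4 F x z y = 0 := by linear_combination h3
  exact (mul_eq_zero.1 h4).resolve_left h2

/-- the product of the Lie algebra as a bilinear map -/
noncomputable def br (F : Type*) [Field F] : (chevF4.Idx → F) →ₗ[F] (chevF4.Idx → F) →ₗ[F] (chevF4.Idx → F) :=
  LinearMap.mk₂ F (fun x y => adv (adR chevF4 F) x *ᵥ y)
    (fun x x' y => by rw [adv_add, Matrix.add_mulVec])
    (fun c x y => by rw [adv_smul, Matrix.smul_mulVec])
    (fun x y y' => Matrix.mulVec_add _ _ _)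
    (fun c x y => Matrix.mulVec_smul _ _ _)

theorem br_apply {F : Type*} [Field F] (x y : chevF4.Idx → F) : br F x y = adv (adR chevF4 F) x *ᵥ y := rfl

theorem br_jac {F : Type*} [Field F] (x y z : chevF4.Idx → F) :
    br F x (br F y z) = br F (br F x y) z + br F y (br F x z) := by
  have h := JacAll.jacR_all chevF4 (by simp) F x y
  rw [br_apply (br F x y) z, br_apply x y, h, Matrix.sub_mulVec, br_apply, br_apply, br_apply, br_apply,
    Matrix.mulVec_mulVec, Matrix.mulVec_mulVec, sub_add_cancel]

theorem finrank_L (F : Type*) [Field F] : Module.finrank F (chevF4.Idx → F) = 52 := by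
  rw [Module.finrank_fintype_fun_eq_card]
  show Fintype.card (Fin 4 ⊕ Fin 48) = 52
  rw [Fintype.card_sum, Fintype.card_fin, Fintype.card_fin]

/-- the dimension of the fixed space from the rank -/
theorem finrank_fx_rank {K : Type*} [Group K] {th : V → K} {F : Type*} [Field F] {ι : Type*} [Fintype ι]
    [DecidableEq ι] (φ : K →* GL ι F) (v : V) :
    ((φ (th v) : Matrix ι ι F) - 1).rank + Module.finrank F (fx (rep φ) th v) = Module.finrank F (ι → F) := by
  have h1 : fx (rep φ) th v = LinearMap.ker (Matrix.mulVecLin ((φ (th v) : Matrix ι ι F) - 1)) := by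
    ext w
    rw [mem_fx, LinearMap.mem_ker, Matrix.mulVecLin_apply, Matrix.sub_mulVec, Matrix.one_mulVec, sub_eq_zero,
      rep_apply]
  rw [h1]
  exact LinearMap.finrank_range_add_finrank_ker _

universe u

set_option maxRecDepth 20000 in
/-- **row `F4`** -/
theorem row_F4 {K : Type*} [Group K] {th : V → K} {O K0 : Subgroup K} (h : Sit th O K0) {F : Type u} [Field F]
    [Fintype F] (ho : Odd (Fintype.card F)) (e : K ≃* chevF4.group F) : False := by
  have h2 := two_ne_zero_of_odd ho
  let φ : K →* GL chevF4.Idx F := (chevF4.group F).subtype.comp e.toMonoidHom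
  have hφ : Function.Injective φ := fun _ _ hab => e.injective (Subtype.ext hab)
  have hr : ∀ k, φ k ∈ chevF4.group F := fun k => (e k).2
  obtain ⟨u, hu⟩ : ∃ u : V, u ≠ 0 := ⟨Pi.single 0 1, fun h => by
    have := congrFun h 0
    rw [Pi.single_eq_same] at this
    exact absurd this (by decide)⟩
  have hne : th u ≠ 1 := fun hh => hu ((h.eq_one_iff u).1 hh)
  have hdim := finrank_eq (ρ := rep φ) h h2 hu
  have hfx := finrank_fx (ρ := rep φ) h h2 hu hu
  have hrk := finrank_fx_rank (th := th) φ u
  have hrr := RankF4.rank_inv ho h2 (t := e (th u)) (by rw [← map_mul, h.sq, map_one])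
    (fun hh => hne (e.injective (by rw [hh, map_one])))
  have hrr' : ((φ (th u) : Matrix chevF4.Idx chevF4.Idx F) - 1).rank = 16 ∨
      ((φ (th u) : Matrix chevF4.Idx chevF4.Idx F) - 1).rank = 28 := hrr
  rw [finrank_L] at hdim hrk
  have h1 : Module.finrank F (wt (rep φ) th u) = 2 := by
    rcases hrr' with hr' | hr' <;> rw [hr'] at hrk <;> omega
  have h0 : Module.finrank F (wt (rep φ) th 0) = 22 := by omega
  have hB : ∀ v x y, rep φ (th v) (br F x y) = br F (rep φ (th v) x) (rep φ (th v) y) := by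
    intro v x y
    rw [rep_apply, rep_apply, rep_apply, br_apply, br_apply, Matrix.mulVec_mulVec, Matrix.mulVec_mulVec,
      JacAll.group_mul_adv chevF4 (by simp) F (φ (th v)) (hr _)]
  have hI : ∀ x, ∀ w ∈ (D (rep φ) th (br F)).comap (pr (rep φ) th 0),
      adv (adR chevF4 F) x *ᵥ w ∈ (D (rep φ) th (br F)).comap (pr (rep φ) th 0) := by
    intro x w hw
    rw [Submodule.mem_comap] at hw ⊢
    have hid := ideal (ρ := rep φ) (W := chevF4.Idx → F) h h2 (br F) hB br_jac x (w := w) hw
    rw [br_apply] at hid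
    exact hid
  have hQ : ∀ w, (φ (th u) : Matrix chevF4.Idx chevF4.Idx F) *ᵥ w - w ∈
      (D (rep φ) th (br F)).comap (pr (rep φ) th 0) := by
    intro w
    rw [Submodule.mem_comap]
    have h3 := pr_zero_th (ρ := rep φ) h u w
    rw [rep_apply] at h3
    rw [h3]
    exact Submodule.zero_mem _
  have htop := IdealF.eq_top IdealF.lac_F4 h2 hI (hr (th u)) (fun hh => hne (hφ (by rw [hh, map_one]))) hQ
  have hle : wt (rep φ) th 0 ≤ D (rep φ) th (br F) := by
    intro w hw
    have h3 : w ∈ (D (rep φ) th (br F)).comap (pr (rep φ) th 0) := by rw [htop]; exact Submodule.mem_top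
    rw [Submodule.mem_comap, pr_self h2 hw] at h3
    exact h3
  have h4 := Submodule.finrank_mono hle
  have h5 := finrank_D_le (ρ := rep φ) (th := th) (br F) (fun x => by rw [br_apply, adv_self h2 x])
    (fun u' hu' => (finrank_wt_eq (ρ := rep φ) h hu' hu).trans h1)
  omega

end Cfsg.Agent.H512.LinFour.RowF4
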